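import Cfsg.Agent.Lib.Comp.Fast

set_option maxRecDepth 100000
set_option Elab.async false

namespace Cfsg.Lib.Comp.F24p

universe u

def iv : ℕ → ℕ := (fun x => look (nat_lit 0xffef7cefae78df6d74cf2c70beeb6caeaa689e69648e28607de75c6da6585d65544d24503ce34b30a2481c61440c2040) 6 x)

noncomputable def R : List (List ℕ × ℕ) := (apd [([1],1),
 ([2],1),
 ([3],1),
 ([4],1),
 ([5],1),
 ([6],1),
 ([7],1),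
 ([8],1),
 ([9],1),
 ([10],1),
 ([1,2],2),
 ([1,3],1),
 ([1,4],1),
 ([1,5],1),
 ([1,6],1),
 ([1,7],1),
 ([1,8],1),
 ([1,9],1),
 ([1,10],1),
 ([2,3],2),
 ([2,4],1),
 ([2,5],1),
 ([2,6],1),
 ([2,7],1),
 ([2,8],1),
 ([2,9],1),
 ([2,10],1),
 ([3,4],2),
 ([3,5],1),
 ([3,6],1),
 ([3,7],1),
 ([3,8],1),
 ([3,9],1),
 ([3,10],1),
 ([4,5],2),
 ([4,6],1),
 ([4,7],1),
 ([4,8],2),
 ([4,9],1),
 ([4,10],1)]
 [([5,6],2),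
 ([5,7],1),
 ([5,8],1),
 ([5,9],1),
 ([5,10],1),
 ([6,7],2),
 ([6,8],1),
 ([6,9],1),
 ([6,10],1),
 ([7,8],1),
 ([7,9],1),
 ([7,10],2),
 ([8,9],2),
 ([8,10],1),
 ([9,10],1),
 ([4,3,2,4,5,6,4,8,9],9),
 ([1,2,3,4,5,6,8],8),
 ([11],2),
 ([2,11],1),
 ([3,11],1),
 ([4,11],1),
 ([5,11],1),
 ([6,11],1),
 ([7,11],1),
 ([8,11],1),
 ([9,11],1),
 ([10,11],1),
 ([1,11],2),
 ([1,12],2),
 ([4,3,2,1,11,4,5,6,7,10,4,8,9],16),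
 ([4,3,2,1,12,4,5,6,7,10,4,8,9],16),
 ([11,12],0)])

def L : List ℕ := [1,2,3,4,5,6,7,8,9,10,11,12]

end Cfsg.Lib.Comp.F24p
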