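import Cfsg.Agent.Lib.Comp.Fi24.Volt7
import Cfsg.Agent.Lib.Comp.Fi24.Main
import Cfsg.Agent.Lib.Comp.TMult

/-! The triple cover of `Fi₂₄'`. -/

set_option maxRecDepth 100000

namespace Cfsg.Lib.Comp.Fi24

open Cfsg.Spor Subgroup
open scoped commutatorElement

noncomputable abbrev vδ : ℕ → Equiv.Perm (ℕ × ZMod 3) := vg nets cA cB L

theorem z_rel : ev (gp nets) zw ^ 17 = 1 := nets_rel (zw, 16) (by decide +kernel)

theorem z_act (p : ℕ) (v : ZMod 3) : (ev vδ zw ^ 17) (p, v) = (p, (if p < 306936 then 1 else 0) + v) := by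
  have := vz2.2 p v
  rw [mul_one, mul_one, ← pow_add, ← pow_add, ← pow_add, ← pow_add, show 5 + (6 + 6) = 17 from rfl, z_rel] at this
  rw [this]
  simp [v3, testBit_ones]

noncomputable def dd (x : ℕ) : Spor.Fi24 × Equiv.Perm (ℕ × ZMod 3) := (γ x, vδ x)

theorem ev_dd (u : List ℕ) (n : ℕ) : ev dd u ^ n = (ev γ u ^ n, ev vδ u ^ n) := by
  rw [← Prod.mk.eta (p := ev dd u ^ n), Prod.pow_fst, Prod.pow_snd,
    show (ev dd u).1 = _ from ev_map dd (MonoidHom.fst _ _) u, show (ev dd u).2 = _ from ev_map dd (MonoidHom.snd _ _) u]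
  rfl

theorem dd_iv : IvOK dd iv := by
  refine ⟨Prod.ext ok.ivOK.1 (show vg nets cA cB L 0 = 1 from if_neg (by decide)), fun x hx => ⟨hx, Prod.ext (ok.ivOK.2 x hx).2 ?_⟩⟩
  show vδ x = (vδ x)⁻¹
  by_cases e : x ∈ L
  · have := v_rel ([x], 1) ((by decide +kernel : ∀ x ∈ L, ([x], 1) ∈ R.dropLast) x e)
    rw [ev_single] at this
    exact eq_inv_of_mul_eq_one_left (by rw [← pow_two]; exact this)
  · simp only [vδ, vg, if_neg e, inv_one]

noncomputable abbrev Δ := cl dd L

noncomputable abbrev sd : ℕ → Δ := sval Δ dd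

theorem coe_sd {x : ℕ} (hx : x ∈ L) : (sd x : Spor.Fi24 × Equiv.Perm (ℕ × ZMod 3)) = dd x := coe_sval (mem_cl hx)

noncomputable def zz : Δ := ev sd zw ^ 17

theorem coe_zz : (zz : Spor.Fi24 × Equiv.Perm (ℕ × ZMod 3)) = (1, ev vδ zw ^ 17) := by
  rw [zz, coe_pow, coe_ev_sval fun x hx => mem_cl ((by decide : ∀ x ∈ zw, x ∈ L) x hx), ev_dd,
    show ev γ zw ^ 17 = 1 from ok.rels hall (zw, 16) (by decide +kernel)]

theorem zz_pow : zz ^ 3 = 1 := by
  apply Subtype.ext
  rw [coe_pow, coe_zz]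
  refine Prod.ext (one_pow _) (Equiv.ext fun ⟨p, v⟩ => ?_)
  show ((ev vδ zw ^ 17) ^ 3) (p, v) = (p, v)
  rw [pow_three, Equiv.Perm.mul_apply, Equiv.Perm.mul_apply, z_act, z_act, z_act]
  refine Prod.ext rfl ?_
  split_ifs
  · exact (by decide : ∀ v : ZMod 3, 1 + (1 + (1 + v)) = v) v
  · simp

theorem zz_ne : zz ≠ 1 := fun h => by
  have h1 : ev vδ zw ^ 17 = 1 := congrArg Prod.snd (coe_zz.symm.trans (congrArg Subtype.val h))
  have := z_act 0 0
  rw [h1] at this
  exact absurd (congrArg Prod.snd this) (by decide)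

theorem zz_conj {x : ℕ} (hx : x ∈ L) : MulAut.conj (sd x) zz = zz⁻¹ := by
  rw [MulAut.conj_apply, mul_inv_eq_iff_eq_mul, eq_inv_mul_iff_mul_eq]
  apply Subtype.ext
  rw [coe_mul, coe_mul, coe_zz, coe_sd hx]
  refine Prod.ext (by simp) (Equiv.ext fun ⟨p, v⟩ => ?_)
  have e : ∀ p v, vδ x (p, v) = (gp nets x p, v3 (cA x) (cB x) (gp nets x p) - v) := fun p v => by
    rw [vδ, vg, if_pos hx]; rfl
  rw [Prod.snd_mul, Prod.snd_mul, Equiv.Perm.mul_apply, Equiv.Perm.mul_apply, dd]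
  simp only
  rw [z_act, e, z_act, e]
  simp only [(fx _ (mem_cl hx)).lt_iff]
  refine Prod.ext rfl ?_
  simp only
  ring

theorem zz_all (a : Δ) : MulAut.conj a zz = zz ∨ MulAut.conj a zz = zz⁻¹ := by
  have ha : a ∈ cl sd L := cl_sval_top dd L ▸ mem_top a
  induction ha using closure_induction with
  | mem x hx => obtain ⟨y, hy, rfl⟩ := hx; exact .inr (zz_conj hy)
  | one => simp
  | mul x y _ _ hx hy =>
    rw [map_mul, MulAut.mul_apply]
    rcases hx with hx | hx <;> rcases hy with hy | hy <;> simp only [hx, hy, map_inv, inv_inv, true_or, or_true]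
  | inv x _ hx =>
    rw [map_inv, MulAut.inv_def, MulEquiv.symm_apply_eq, MulEquiv.symm_apply_eq, map_inv]
    rcases hx with hx | hx <;> simp only [hx, inv_inv, true_or, or_true]

instance zz_normal : (zpowers zz).Normal := ⟨fun n hn g => by
  obtain ⟨k, rfl⟩ := hn
  show MulAut.conj g (zz ^ k) ∈ _
  rw [map_zpow]
  rcases zz_all g with h | h <;> rw [h]
  · exact zpow_mem (mem_zpowers _) _
  · exact zpow_mem (inv_mem (mem_zpowers _)) _⟩

theorem comm_zz : commutator Δ ≤ centralizer {zz} := by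
  rw [commutator_def, commutator_le]
  intro a _ b _
  rw [mem_centralizer_singleton_iff, ← mul_inv_eq_iff_eq_mul, ← MulAut.conj_apply, commutatorElement_def]
  have k : ∀ a : Δ, (MulAut.conj a zz = zz ∧ MulAut.conj a⁻¹ zz = zz) ∨
      (MulAut.conj a zz = zz⁻¹ ∧ MulAut.conj a⁻¹ zz = zz⁻¹) := fun a => by
    rw [map_inv, MulAut.inv_def, MulEquiv.symm_apply_eq, MulEquiv.symm_apply_eq, map_inv]
    rcases zz_all a with h | h <;> simp only [h, inv_inv, and_self, true_or, or_true]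
  simp only [map_mul, MulAut.mul_apply]
  rcases k a with ⟨h1, h2⟩ | ⟨h1, h2⟩ <;> rcases k b with ⟨h3, h4⟩ | ⟨h3, h4⟩ <;>
    simp only [h1, h2, h3, h4, map_inv (MulAut.conj _), inv_inv]

noncomputable def π : Δ →* Spor.Fi24 := (MonoidHom.fst _ _).comp Δ.subtype

theorem π_sd {x : ℕ} (hx : x ∈ L) : π (sd x) = γ x := congrArg Prod.fst (coe_sd hx)

theorem π_surj : Function.Surjective π := by
  rw [← MonoidHom.range_eq_top, eq_top_iff, ← ok.top hall, cl_le]
  exact fun x hx => ⟨sd x, π_sd hx⟩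

theorem π_zz : π zz = 1 := congrArg Prod.fst coe_zz

theorem order_zz : orderOf zz = 3 := orderOf_eq_prime zz_pow zz_ne

theorem ker_π : Finite Δ ∧ π.ker = zpowers zz := by
  let q := QuotientGroup.mk' (zpowers zz)
  have i1 : IvOK (fun x => q (sd x)) iv :=
    ⟨(congrArg q (dd_iv.sval Δ).1).trans (map_one q), fun x hx => ⟨hx, by rw [← map_inv, ← ((dd_iv.sval Δ).2 x hx).2]⟩⟩
  have i2 : Rels (fun x => q (sd x)) R := fun r hr => by
    rw [← ev_map, ← map_pow, QuotientGroup.mk'_apply, QuotientGroup.eq_one_iff]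
    rcases (by decide +kernel : ∀ r ∈ R, (r ∈ R.dropLast ∧ ∀ x ∈ r.1, x ∈ L) ∨ r = (zw, 16)) r hr with ⟨h, h'⟩ | rfl
    · rw [show ev sd r.1 ^ (r.2 + 1) = 1 from Subtype.ext (by
        rw [coe_pow, coe_ev_sval fun x hx => mem_cl (h' x hx), ev_dd, ok.rels hall r hr, v_rel r h]; rfl)]
      exact one_mem _
    · exact mem_zpowers _
  obtain ⟨f1, f2⟩ := ord _ _ i1 i2
  have top : cl (fun x => q (sd x)) L = ⊤ := by
    rw [← map_cl_of_gen (f := q) (γ := sd) fun _ _ => rfl, cl_sval_top, ← MonoidHom.range_eq_map,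
      MonoidHom.range_eq_top.2 (QuotientGroup.mk'_surjective _)]
  rw [top] at f1 f2
  have f3 : Finite (Δ ⧸ zpowers zz) := Finite.of_equiv _ topEquiv.toEquiv
  have c3 : Nat.card (zpowers zz) = 3 := by rw [Nat.card_zpowers, order_zz]
  have f4 : Finite (zpowers zz) := Nat.finite_of_card_ne_zero (by omega)
  have f5 : Finite Δ := Finite.of_subgroup_quotient (zpowers zz)
  have le : zpowers zz ≤ π.ker := zpowers_le.2 π_zz
  refine ⟨f5, (eq_of_le_of_card_ge le ?_).symm⟩
  have e1 := card_eq_card_quotient_mul_card_subgroup (zpowers zz)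
  have e2 := card_eq_card_quotient_mul_card_subgroup π.ker
  rw [Nat.card_congr (QuotientGroup.quotientKerEquivOfSurjective π π_surj).toEquiv, card24] at e2
  rw [card_top] at f2
  rw [c3] at e1 ⊢
  omega

theorem zz_mem : zz ∈ commutator Δ := by
  have : ⁅zz, sd 12⁆ ∈ commutator Δ := commutator_mem_commutator (mem_top _) (mem_top _)
  have e : ⁅zz, sd 12⁆ = zz * zz := by
    rw [commutatorElement_def, mul_assoc, mul_assoc, ← mul_assoc (sd 12), ← MulAut.conj_apply, map_inv,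
      zz_conj (by decide), inv_inv]
  have := mul_mem this this
  rwa [e, ← mul_assoc, show zz * zz * zz = 1 by rw [← zz_pow, pow_three, mul_assoc], one_mul] at this

theorem map_comm : (commutator Δ).map π = commutator Spor.Fi24 := by
  rw [map_commutator_eq, MonoidHom.range_eq_top.2 π_surj, ← commutator_def]

theorem zz_mem2 : zz ∈ ⁅commutator Δ, commutator Δ⁆ := by
  set D := ⁅commutator Δ, commutator Δ⁆
  have hD : D.map π = commutator Spor.Fi24 := by
    have hn : (D.map π).Normal := Normal.map inferInstance π π_surj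
    refine le_antisymm (map_comm ▸ map_mono (commutator_le_left _ _)) (comm_le _ hn fun h => ?_)
    rw [map_commutator, map_comm, commutator_eq_bot_iff_le_centralizer] at h
    have := simple'
    letI : CommGroup Spor.Fi24' := { mul_comm := fun a b => Subtype.ext (h b.2 a a.2) }
    have h3 := IsSimpleGroup.prime_card (α := Spor.Fi24')
    rw [card24'] at h3
    exact absurd (h3.eq_one_or_self_of_dvd 2 (by norm_num)) (by norm_num)
  let q := QuotientGroup.mk' D
  have k : ∀ x ∈ L, ∀ y ∈ L, ([x, y], 1) ∈ R.dropLast → q (sd x) = q (sd y) := fun x hx y hy h => by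
    have h1 : π (sd x * sd y) ∈ D.map π := by
      rw [hD, map_mul, π_sd hx, π_sd hy, ← ev_single γ y, ← ev_cons]
      exact (ev_mem_comm (by simp [hx, hy])).2 (by simp)
    obtain ⟨d, hd, e⟩ := h1
    have h2 : d⁻¹ * (sd x * sd y) ∈ zpowers zz := by rw [← ker_π.2, MonoidHom.mem_ker, map_mul, map_inv, e, inv_mul_cancel]
    obtain ⟨n, hn⟩ := h2
    have h3 : q (sd x * sd y) = q zz ^ n := by
      rw [← map_zpow, show zz ^ n = _ from hn, map_mul q d⁻¹, show q d⁻¹ = 1 from (QuotientGroup.eq_one_iff _).2 (inv_mem hd),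
        one_mul]
    have h4 : (sd x * sd y) ^ 2 = 1 := Subtype.ext (by
      have := ev_dd [x, y] 2
      rw [ok.rels hall _ (List.mem_of_mem_dropLast h), v_rel _ h, ev_cons, ev_single] at this
      rw [coe_pow, coe_mul, coe_sd hx, coe_sd hy, this]; rfl)
    have h5 : q (sd x * sd y) ^ 3 = 1 := by rw [h3, ← zpow_natCast, ← zpow_mul, mul_comm, zpow_mul, zpow_natCast, ← map_pow, zz_pow, map_one, one_zpow]
    rw [pow_succ, ← map_pow, h4, map_one, one_mul, map_mul, mul_eq_one_iff_eq_inv, ← map_inv,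
      ← ((dd_iv.sval Δ).2 y ((by decide : ∀ x ∈ L, x < 64) y hy)).2] at h5
    exact h5
  have k2 : ∀ x ∈ zw, q (sd x) = q (sd 12) := fun x hx => by
    rcases (by decide +kernel : ∀ x ∈ zw, x = 12 ∨ x = 11 ∨ (x ∈ L ∧ ([x, 12], 1) ∈ R.dropLast)) x hx with rfl | rfl | h
    · rfl
    · exact (k 2 (by decide) 11 (by decide) (by decide +kernel)).symm.trans (k 2 (by decide) 12 (by decide) (by decide +kernel))
    · exact k x h.1 12 (by decide) h.2
  have k3 : q (sd 12) * q (sd 12) = 1 := by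
    rw [← map_mul, show sd 12 * sd 12 = 1 from mul_eq_one_iff_eq_inv.2 ((dd_iv.sval Δ).2 12 (by norm_num)).2, map_one]
  rw [← QuotientGroup.eq_one_iff, ← QuotientGroup.mk'_apply, zz, map_pow, ev_map, ev_congr _ (γ' := fun _ => q (sd 12)) k2]
  simp only [zw, ev_cons, ev_nil, ← mul_assoc, k3, one_mul, mul_one, one_pow]

theorem cover : Cover Spor.Fi24' 3 := by
  have := ker_π.1
  let σ : commutator Δ →* commutator Spor.Fi24 := (π.comp (commutator Δ).subtype).codRestrict _ fun a => map_comm.le ⟨a, a.2, rfl⟩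
  have hk : ∀ a ∈ σ.ker, (a : Δ) ∈ zpowers zz := fun a ha => ker_π.2.le (congrArg Subtype.val ha)
  refine ⟨commutator Δ, inferInstance, inferInstance, σ, ⟨fun b => ?_, fun a ha => ?_, fun a ha => ?_⟩, ?_⟩
  · obtain ⟨a, ha, e⟩ := map_comm.ge b.2
    exact ⟨⟨a, ha⟩, Subtype.ext e⟩
  · obtain ⟨n, hn⟩ := hk a ha
    refine mem_center_iff.2 fun b => Subtype.ext ?_
    rw [coe_mul, coe_mul, ← hn]
    exact (Commute.zpow_right (mem_centralizer_singleton_iff.1 (comm_zz b.2)) n).eq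
  · obtain ⟨n, hn⟩ := hk a ha
    have : (a : Δ) ∈ (commutator (commutator Δ)).map (commutator Δ).subtype := by
      rw [map_subtype_commutator, ← hn]; exact zpow_mem zz_mem2 n
    obtain ⟨b, hb, e⟩ := this
    exact (Subtype.ext e : b = a) ▸ hb
  · have := orderOf_dvd_natCard (⟨⟨zz, zz_mem⟩, Subtype.ext π_zz⟩ : σ.ker)
    rwa [← orderOf_coe, ← orderOf_coe, order_zz] at this

end Cfsg.Lib.Comp.Fi24
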