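import Cfsg.Agent.Lib.Comp.F24p.Base
import Cfsg.Agent.Lib.Comp.Fi24.Main
import Cfsg.Agent.Lib.Comp.Volt
import Cfsg.Agent.Lib.Comp.Cover

/-! A presentation of `Fi₂₄'` on the products `x l`. -/

set_option maxRecDepth 100000

namespace Cfsg.Lib.Comp

universe u

def flt (w : List ℕ) : List ℕ := w.filter (· ≠ 0)

theorem ev_flt {Γ : Type*} [Group Γ] {γ : ℕ → Γ} (h : γ 0 = 1) (w : List ℕ) : ev γ (flt w) = ev γ w := by
  induction w with
  | nil => rfl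
  | cons x t ih =>
    unfold flt at *
    by_cases e : x = 0
    · rw [List.filter_cons_of_neg (by simp [e]), ih, ev_cons, e, h, one_mul]
    · rw [List.filter_cons_of_pos (by simp [e]), ev_cons, ev_cons, ih]

theorem ev_rot {Γ : Type*} [Group Γ] {γ : ℕ → Γ} {u w : List ℕ} (h : u ~r w) (h1 : ev γ w = 1) : ev γ u = 1 := by
  obtain ⟨n, rfl⟩ := h.symm
  unfold ev at *
  rw [List.map_rotate]
  exact List.prod_rotate_eq_one_of_prod_eq_one h1 n

def fw0 (r : List ℕ × ℕ) : List ℕ := flt (List.replicate (r.2 + 1) r.1).flatten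

theorem ev_fw0 {Γ : Type*} [Group Γ] {γ : ℕ → Γ} (h : γ 0 = 1) (r : List ℕ × ℕ) : ev γ (fw0 r) = ev γ r.1 ^ (r.2 + 1) := by
  rw [fw0, ev_flt h]
  induction r.2 + 1 with
  | zero => simp [ev_nil]
  | succ n ih => rw [List.replicate_succ, List.flatten_cons, ev_append, ih, pow_succ']

theorem cons_rot {iv : ℕ → ℕ} {R R' : List (List ℕ × ℕ)} (h0 : ∀ s ∈ R, ∀ x ∈ fw0 s, x < 64)
    (h : ∀ r ∈ R', fw0 r = [] ∨ ∃ s ∈ R, (fw0 r).length = (fw0 s).length ∧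
      (fw0 r ~r fw0 s ∨ fw0 r ~r ((fw0 s).map iv).reverse)) : Cons.{u} iv R R' := fun Γ _ γ h1 h2 r hr => by
  rw [← ev_fw0 h1.1]
  rcases h r hr with e | ⟨s, hs, -, e | e⟩
  · rw [e, ev_nil]
  · exact ev_rot e ((ev_fw0 h1.1 s).trans (h2 s hs))
  · refine ev_rot e ?_
    have := ev_invA h1 (h0 s hs) []
    rwa [invA_eq, List.append_nil, ev_fw0 h1.1, h2 s hs, ev_nil, inv_one, one_mul] at this

namespace F24p

open Cfsg.Spor Subgroup

theorem ord : Ord.{u} iv R L 1255205709190661721292800 :=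
  Ord.even (l := 12) (show Ord _ Fi24.R Fi24.L (2 * 1255205709190661721292800) from Fi24.ord) (by decide) (by decide)
    (by decide) (by decide +kernel) (cons_rot (by decide +kernel) (by decide +kernel))

theorem ord23 : Ord.{u} iv Fi23.R [1, 2, 3, 4, 5, 6, 7, 8, 9, 10] 4089470473293004800 :=
  Fi23.ord.of_iv (by decide) (by decide +kernel) (by decide +kernel)

noncomputable def gq (x : ℕ) : Spor.Fi24 :=
  if x = 12 then Fi24.γ 12 * Fi24.γ 11 else if x ∈ L then Fi24.γ x * Fi24.γ 12 else 1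

theorem sq (x : ℕ) (hx : x < 64) : Fi24.γ x * Fi24.γ x = 1 := mul_eq_one_iff_eq_inv.2 (Fi24.ok.ivOK.2 x hx).2

theorem gq_t {x : ℕ} (hx : x ∈ Fi24.L) : gq (twf iv 12 true x) = Fi24.γ x * Fi24.γ 12 := by
  by_cases e : x = 12
  · subst e; rw [sq 12 (by norm_num)]; rfl
  · rw [twf, if_neg e, if_pos rfl, gq, if_neg e, if_pos (show x ∈ L from hx)]

theorem comm12 {x : ℕ} (hx : x ∈ Fi23.L) : Fi24.γ x * Fi24.γ 12 = Fi24.γ 12 * Fi24.γ x := by
  have h1 := Fi24.ok.rels Fi24.hall ([x, 12], 1) ((by decide +kernel : ∀ x ∈ Fi23.L, ([x, 12], 1) ∈ Fi24.R) x hx)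
  change ev _ [x, 12] ^ 2 = 1 at h1
  rw [ev_cons, ev_single, pow_two, mul_eq_one_iff_eq_inv, mul_inv_rev,
    ← (Fi24.ok.ivOK.2 12 (by norm_num)).2, ← (Fi24.ok.ivOK.2 x ((by decide : ∀ x ∈ Fi23.L, x < 64) x hx)).2] at h1
  exact h1

theorem gq_f {x : ℕ} (hx : x ∈ Fi24.L) : gq (twf iv 12 false x) = Fi24.γ 12 * Fi24.γ x := by
  rcases (by decide : ∀ x ∈ Fi24.L, x = 12 ∨ x = 11 ∨ (x ∈ Fi23.L ∧ twf iv 12 false x = twf iv 12 true x)) x hx with
    rfl | rfl | ⟨h1, h2⟩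
  · rw [sq 12 (by norm_num)]; rfl
  · rfl
  · rw [h2, gq_t hx, comm12 h1]

theorem gq_iv : IvOK gq iv := by
  refine ⟨rfl, fun x hx => ⟨(by decide : ∀ x < 64, iv x < 64) x hx, ?_⟩⟩
  rw [eq_inv_iff_mul_eq_one]
  rcases (by decide : ∀ x < 64, (x ∉ L ∧ x ≠ 12 ∧ iv x = x) ∨ x = 12 ∨
    (x ∈ Fi24.L ∧ x = twf iv 12 true x ∧ iv x = twf iv 12 false x)) x hx with ⟨h1, h2, h3⟩ | rfl | ⟨h1, h2, h3⟩
  · rw [h3, gq, if_neg h2, if_neg h1, one_mul]
  · show Fi24.γ 11 * Fi24.γ 12 * (Fi24.γ 12 * Fi24.γ 11) = 1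
    rw [mul_assoc, ← mul_assoc (Fi24.γ 12), sq 12 (by norm_num), one_mul, sq 11 (by norm_num)]
  · rw [h3, gq_f h1, h2, gq_t h1, ← h2, mul_assoc, ← mul_assoc (Fi24.γ x), sq x hx, one_mul, sq 12 (by norm_num)]

theorem ev_tw {w : List ℕ} (hw : ∀ x ∈ w, x ∈ Fi24.L) (b : Bool) : ev gq (twl iv 12 b w) =
    (if b ^^ decide (w.length % 2 = 0) then Fi24.γ 12 else 1) * ev Fi24.γ w * (if b then 1 else Fi24.γ 12) := by
  induction w with
  | nil => cases b <;> simp [twl, ev_nil, sq 12 (by norm_num)]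
  | cons x t ih =>
    have hx := hw x List.mem_cons_self
    rw [twl, ev_cons, ev_cons, ih fun y hy => hw y (List.mem_cons_of_mem _ hy), List.length_cons]
    have s := sq 12 (by norm_num)
    have s' : ∀ a, Fi24.γ 12 * (Fi24.γ 12 * a) = a := fun a => by rw [← mul_assoc, s, one_mul]
    rcases Nat.mod_two_eq_zero_or_one t.length with e | e <;> cases b <;>
      simp [e, Nat.add_mod, gq_t hx, gq_f hx, mul_assoc, s']

theorem gq_rel : Rels gq R := by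
  have h2 := Fi24.R2_cons _ _ Fi24.ok.ivOK (Fi24.ok.rels Fi24.hall)
  have h3 : ∀ r ∈ Fi24.R2, (∀ x ∈ r.1, x ∈ Fi24.L) ∧ Even (r.1.length * (r.2 + 1)) := by decide +kernel
  have k : ∀ b, Rels gq (Fi24.R2.map fun r => (twl iv 12 b (rvp r.1 (r.2 + 1)).reverse, 0)) := fun b r hr => by
    obtain ⟨s, hs, rfl⟩ := List.mem_map.1 hr
    rw [zero_add, pow_one, ev_tw fun x hx => (h3 s hs).1 x (mem_rvp (List.mem_reverse.1 hx)), ev_rvp, h2 s hs,
      List.length_reverse, length_rvp, Nat.even_iff.1 (h3 s hs).2]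
    cases b <;> simp [sq 12 (by norm_num)]
  exact cons_rot.{0} (by decide +kernel) (by decide +kernel) _ _ gq_iv ((k true).append (k false))

theorem cl_eq : cl gq L = commutator Spor.Fi24 := by
  rw [Fi24.comm_eq.1]
  apply le_antisymm
  · rw [cl_le]
    have h : ∀ x ∈ Fi24.L, Fi24.γ x * Fi24.γ 12 ∈ clw Fi24.γ Fi24.W := fun x hx => by
      have := mem_clw (γ := Fi24.γ) (W := Fi24.W) (w := [x, 12]) (List.mem_map.2 ⟨x, hx, rfl⟩)
      rwa [ev_cons, ev_single] at this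
    intro x hx
    by_cases e : x = 12
    · rw [e, show gq 12 = gq (iv 11) from rfl, (gq_iv.2 11 (by norm_num)).2]; exact inv_mem (h 11 (by decide))
    · rw [gq, if_neg e, if_pos hx]; exact h x hx
  · rw [clw_le]
    intro w hw
    obtain ⟨x, hx, rfl⟩ := List.mem_map.1 hw
    rw [ev_cons, ev_single, ← gq_t hx]
    by_cases e : x = 12
    · rw [e]; exact one_mem _
    · rw [twf, if_neg e, if_pos rfl]; exact mem_cl hx

theorem card : Nat.card (cl gq L) = 1255205709190661721292800 := by rw [cl_eq]; exact Fi24.card24'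

theorem lbT {H : List ℕ} (hH : ∀ x ∈ H, x ∈ Fi23.L) {m : ℕ} (h : m ≤ Nat.card (cl (gp Fi23.nets) H)) :
    m ≤ Nat.card (cl gq H) := by
  obtain ⟨f, hf, -, h1⟩ := Fi24.faith
  obtain ⟨φ, -, -, h2⟩ := Fi24.hom23
  have a : ∀ x ∈ Fi23.L, x ∈ Fi24.L1 ∧ x ∈ Fi24.L ∧ x ∈ L ∧ x ≠ 12 := by decide
  have e : ∀ x ∈ H, f (gq x) = gp Fi24.nets x * gp Fi24.nets 12 := fun x hx => by
    obtain ⟨-, a1, a2, a3⟩ := a x (hH x hx)
    rw [gq, if_neg a3, if_pos a2, map_mul, h1 x a1, h1 12 (by decide)]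
  have m1 : ∀ x ∈ H, f (gq x) ∈ cl (gp Fi24.nets) Fi24.L1 := fun x hx =>
    e x hx ▸ mul_mem (mem_cl (a x (hH x hx)).1) (mem_cl (by decide))
  have le : cl gq H ≤ (cl (gp Fi24.nets) Fi24.L1).comap f := cl_le.2 m1
  let ψ : cl gq H →* Equiv.Perm ℕ := (Subgroup.subtype _).comp (φ.comp ((f.comp (cl gq H).subtype).codRestrict _ fun a => le a.2))
  have : cl (gp Fi23.nets) H ≤ ψ.range := cl_le.2 fun x hx => ⟨⟨gq x, mem_cl hx⟩, by
    have : ((f.comp (cl gq H).subtype).codRestrict (cl (gp Fi24.nets) Fi24.L1) fun a => le a.2) ⟨gq x, mem_cl hx⟩ =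
        ⟨gp Fi24.nets x, mem_cl (a x (hH x hx)).1⟩ * ⟨gp Fi24.nets 12, mem_cl (by decide)⟩ := Subtype.ext (e x hx)
    show (φ _ : Equiv.Perm ℕ) = _
    rw [this, map_mul, h2 x (a x (hH x hx)).1, h2 12 (by decide)]
    exact mul_one _⟩
  have : Finite ψ.range := Finite.of_surjective _ ψ.rangeRestrict_surjective
  exact h.trans ((card_le_of_le ‹_›).trans (Nat.card_le_card_of_surjective _ ψ.rangeRestrict_surjective))

theorem lb23 : 4089470473293004800 ≤ Nat.card (cl gq [1, 2, 3, 4, 5, 6, 7, 8, 9, 10]) := lbT (by decide) Fi23.card.ge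

end F24p

end Cfsg.Lib.Comp
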