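import Cfsg.Agent.Lib.Comp.F24p.Base

set_option maxRecDepth 100000
set_option Elab.async false

namespace Cfsg.Lib.Comp.F24p

universe u

noncomputable def MuH0_2_R : List (List ℕ × ℕ) := [([1],1),
 ([2],1),
 ([3],1),
 ([4],1),
 ([5],1),
 ([8],1),
 ([1,2],2),
 ([1,3],1),
 ([1,4],1),
 ([1,5],1),
 ([1,8],1),
 ([2,3],2),
 ([2,4],1),
 ([2,5],1),
 ([2,8],1),
 ([3,4],2),
 ([3,5],1),
 ([3,8],1),
 ([4,5],2),
 ([4,8],2),
 ([5,8],1)]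

noncomputable def MuH0_2_n_1 : Net :=
 (Net.cons 1 (nat_lit 0x1)
 (Net.cons 1 (nat_lit 0x400)
 Net.nil))

noncomputable def MuH0_2_n_2 : Net :=
 (Net.cons 1 (nat_lit 0x200)
 (Net.cons 1 (nat_lit 0x2)
 Net.nil))

noncomputable def MuH0_2_n_3 : Net :=
 (Net.cons 3 (nat_lit 0x104)
 (Net.cons 1 (nat_lit 0x208)
 (Net.cons 1 (nat_lit 0x410)
 (Net.cons 1 (nat_lit 0x208)
 (Net.cons 3 (nat_lit 0x104)
 Net.nil)))))

noncomputable def MuH0_2_n_4 : Net :=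
 (Net.cons 1 (nat_lit 0x8)
 (Net.cons 1 (nat_lit 0x80)
 Net.nil))

noncomputable def MuH0_2_n_5 : Net :=
 (Net.cons 1 (nat_lit 0x40)
 (Net.cons 1 (nat_lit 0x10)
 Net.nil))

noncomputable def MuH0_2_n_8 : Net :=
 (Net.cons 6 (nat_lit 0x30)
 (Net.cons 3 (nat_lit 0x80)
 (Net.cons 1 (nat_lit 0x40)
 (Net.cons 1 (nat_lit 0x400)
 (Net.cons 3 (nat_lit 0x80)
 (Net.cons 6 (nat_lit 0x30)
 Net.nil))))))

noncomputable def MuH0_2_n : List Net := [Net.nil,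
 MuH0_2_n_1,
 MuH0_2_n_2,
 MuH0_2_n_3,
 MuH0_2_n_4,
 MuH0_2_n_5,
 Net.nil,
 Net.nil,
 MuH0_2_n_8]

theorem MuH0_2_n_ok : NetsOK 12 MuH0_2_n := netsOK_of (by decide +kernel)

theorem MuH0_2_n_rel : Rels (gp MuH0_2_n) MuH0_2_R := rels_of_relsB (k := 4) MuH0_2_n_ok (by norm_num) (by decide +kernel)

theorem MuH0_2_fin : finB 12 MuH0_2_n [1,2,3,4,5,8] 12 (runH 12 MuH0_2_n (fun x p => ptInv (nth Net.nil MuH0_2_n x) p) iv MuH0_2_R [] ([2,3,4,5,8].map fun x => [x]) 0 []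
  [1,5,9,13,17,0,4,8,12,16,20,24,28,32,36,40,44,48,52,56,60,64,68,72,76,80,32,48,60,68,72,28,44,48,56,64,24,28,32,40,52,36]
  (defsH 12 MuH0_2_n (ones 156) [1,2,3,4,5,8,4,3,2,1] (Nat.shiftLeft 1 0) 0)) = true := by decide +kernel

theorem MuH0_2_idx : Idx.{u} iv (MuH0_2_R ++ []) ([2,3,4,5,8].map fun x => [x]) [1,2,3,4,5,8] 12 :=
  Reach.idx MuH0_2_n_ok (reach_runH MuH0_2_n_ok (fun x p _ => ptInv_gp MuH0_2_n_ok x p) MuH0_2_n_rel (reach_defsH MuH0_2_n_ok _ _ _ _ _ _) _ _) MuH0_2_fin (by norm_num)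

end Cfsg.Lib.Comp.F24p
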