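import Cfsg.Agent.Lib.Comp.F24p.Base

set_option maxRecDepth 100000
set_option Elab.async false

namespace Cfsg.Lib.Comp.F24p

universe u

noncomputable def MuH0_4_R : List (List ℕ × ℕ) := [([3],1),
 ([4],1),
 ([5],1),
 ([8],1),
 ([3,4],2),
 ([3,5],1),
 ([3,8],1),
 ([4,5],2),
 ([4,8],2),
 ([5,8],1)]

noncomputable def MuH0_4_n_3 : Net :=
 (Net.cons 1 (nat_lit 0x14)
 Net.nil)

noncomputable def MuH0_4_n_4 : Net :=
 (Net.cons 2 (nat_lit 0x22)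
 (Net.cons 1 (nat_lit 0x44)
 (Net.cons 2 (nat_lit 0x22)
 Net.nil)))

noncomputable def MuH0_4_n_5 : Net :=
 (Net.cons 4 (nat_lit 0xc)
 (Net.cons 2 (nat_lit 0x30)
 (Net.cons 4 (nat_lit 0xc)
 Net.nil)))

noncomputable def MuH0_4_n_8 : Net :=
 (Net.cons 1 (nat_lit 0x41)
 Net.nil)

noncomputable def MuH0_4_n : List Net := [Net.nil,
 Net.nil,
 Net.nil,
 MuH0_4_n_3,
 MuH0_4_n_4,
 MuH0_4_n_5,
 Net.nil,
 Net.nil,
 MuH0_4_n_8]

theorem MuH0_4_n_ok : NetsOK 8 MuH0_4_n := netsOK_of (by decide +kernel)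

theorem MuH0_4_n_rel : Rels (gp MuH0_4_n) MuH0_4_R := rels_of_relsB (k := 3) MuH0_4_n_ok (by norm_num) (by decide +kernel)

theorem MuH0_4_fin : finB 8 MuH0_4_n [3,4,5,8] 8 (runH 8 MuH0_4_n (fun x p => ptInv (nth Net.nil MuH0_4_n x) p) iv MuH0_4_R [] ([3,4,5].map fun x => [x]) 0 []
  [1,5,9,0,4,8,12,20,24,32,36,16,24,28,32,36,16,24]
  (defsH 8 MuH0_4_n (ones 104) [8,4,5,3,4,8] (Nat.shiftLeft 1 0) 0)) = true := by decide +kernel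

theorem MuH0_4_idx : Idx.{u} iv (MuH0_4_R ++ []) ([3,4,5].map fun x => [x]) [3,4,5,8] 8 :=
  Reach.idx MuH0_4_n_ok (reach_runH MuH0_4_n_ok (fun x p _ => ptInv_gp MuH0_4_n_ok x p) MuH0_4_n_rel (reach_defsH MuH0_4_n_ok _ _ _ _ _ _) _ _) MuH0_4_fin (by norm_num)

end Cfsg.Lib.Comp.F24p
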