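import Cfsg.Agent.Lib.Comp.F24p.Base

set_option maxRecDepth 100000
set_option Elab.async false

namespace Cfsg.Lib.Comp.F24p

universe u

noncomputable def MuH1_3_R : List (List ℕ × ℕ) := [([2],1),
 ([3],1),
 ([4],1),
 ([5],1),
 ([8],1),
 ([2,3],2),
 ([2,4],1),
 ([2,5],1),
 ([2,8],1),
 ([3,4],2),
 ([3,5],1),
 ([3,8],1),
 ([4,5],2),
 ([4,8],2),
 ([5,8],1)]

noncomputable def MuH1_3_n_2 : Net :=
 (Net.cons 1 (nat_lit 0x1)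
 (Net.cons 1 (nat_lit 0x100)
 Net.nil))

noncomputable def MuH1_3_n_3 : Net :=
 (Net.cons 1 (nat_lit 0x80)
 (Net.cons 1 (nat_lit 0x2)
 Net.nil))

noncomputable def MuH1_3_n_4 : Net :=
 (Net.cons 1 (nat_lit 0x4)
 (Net.cons 1 (nat_lit 0x40)
 Net.nil))

noncomputable def MuH1_3_n_5 : Net :=
 (Net.cons 1 (nat_lit 0x20)
 (Net.cons 1 (nat_lit 0x8)
 Net.nil))

noncomputable def MuH1_3_n_8 : Net :=
 (Net.cons 5 (nat_lit 0x18)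
 (Net.cons 1 (nat_lit 0x80)
 (Net.cons 1 (nat_lit 0x140)
 (Net.cons 1 (nat_lit 0xa0)
 (Net.cons 1 (nat_lit 0x140)
 (Net.cons 1 (nat_lit 0x80)
 (Net.cons 5 (nat_lit 0x18)
 Net.nil)))))))

noncomputable def MuH1_3_n : List Net := [Net.nil,
 Net.nil,
 MuH1_3_n_2,
 MuH1_3_n_3,
 MuH1_3_n_4,
 MuH1_3_n_5,
 Net.nil,
 Net.nil,
 MuH1_3_n_8]

theorem MuH1_3_n_ok : NetsOK 10 MuH1_3_n := netsOK_of (by decide +kernel)

theorem MuH1_3_n_rel : Rels (gp MuH1_3_n) MuH1_3_R := rels_of_relsB (k := 4) MuH1_3_n_ok (by norm_num) (by decide +kernel)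

theorem MuH1_3_fin : finB 10 MuH1_3_n [2,3,4,5,8] 10 (runH 10 MuH1_3_n (fun x p => ptInv (nth Net.nil MuH1_3_n x) p) iv MuH1_3_R [] ([3,4,5,8].map fun x => [x]) 0 []
  [1,5,9,13,0,4,8,12,16,20,24,28,32,36,40,44,48,52,56,24,36,44,48,20,24,32,40,28]
  (defsH 10 MuH1_3_n (ones 130) [2,3,4,5,8,4,3,2] (Nat.shiftLeft 1 0) 0)) = true := by decide +kernel

theorem MuH1_3_idx : Idx.{u} iv (MuH1_3_R ++ []) ([3,4,5,8].map fun x => [x]) [2,3,4,5,8] 10 :=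
  Reach.idx MuH1_3_n_ok (reach_runH MuH1_3_n_ok (fun x p _ => ptInv_gp MuH1_3_n_ok x p) MuH1_3_n_rel (reach_defsH MuH1_3_n_ok _ _ _ _ _ _) _ _) MuH1_3_fin (by norm_num)

end Cfsg.Lib.Comp.F24p
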