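import Cfsg.Agent.Lib.Comp.F24p.Base

set_option maxRecDepth 100000
set_option Elab.async false

namespace Cfsg.Lib.Comp.F24p

universe u

noncomputable def MuH2_7_R : List (List ℕ × ℕ) := [([3],1),
 ([4],1),
 ([3,4],2)]

noncomputable def MuH2_7_n_3 : Net :=
 (Net.cons 1 (nat_lit 0x2)
 Net.nil)

noncomputable def MuH2_7_n_4 : Net :=
 (Net.cons 1 (nat_lit 0x1)
 Net.nil)

noncomputable def MuH2_7_n : List Net := [Net.nil,
 Net.nil,
 Net.nil,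
 MuH2_7_n_3,
 MuH2_7_n_4]

theorem MuH2_7_n_ok : NetsOK 3 MuH2_7_n := netsOK_of (by decide +kernel)

theorem MuH2_7_n_rel : Rels (gp MuH2_7_n) MuH2_7_R := rels_of_relsB (k := 2) MuH2_7_n_ok (by norm_num) (by decide +kernel)

theorem MuH2_7_fin : finB 3 MuH2_7_n [3,4] 3 (runH 3 MuH2_7_n (fun x p => ptInv (nth Net.nil MuH2_7_n x) p) iv MuH2_7_R [] ([3].map fun x => [x]) 0 []
  [1,0,4,8]
  (defsH 3 MuH2_7_n (ones 39) [4,3] (Nat.shiftLeft 1 0) 0)) = true := by decide +kernel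

theorem MuH2_7_idx : Idx.{u} iv (MuH2_7_R ++ []) ([3].map fun x => [x]) [3,4] 3 :=
  Reach.idx MuH2_7_n_ok (reach_runH MuH2_7_n_ok (fun x p _ => ptInv_gp MuH2_7_n_ok x p) MuH2_7_n_rel (reach_defsH MuH2_7_n_ok _ _ _ _ _ _) _ _) MuH2_7_fin (by norm_num)

end Cfsg.Lib.Comp.F24p
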