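import Cfsg.Agent.Lib.Comp.F24p.Base

set_option maxRecDepth 100000
set_option Elab.async false

namespace Cfsg.Lib.Comp.F24p

universe u

noncomputable def MuH3_1_R : List (List ℕ × ℕ) := [([2],1),
 ([3],1),
 ([4],1),
 ([5],1),
 ([6],1),
 ([7],1),
 ([8],1),
 ([2,3],2),
 ([2,4],1),
 ([2,5],1),
 ([2,6],1),
 ([2,7],1),
 ([2,8],1),
 ([3,4],2),
 ([3,5],1),
 ([3,6],1),
 ([3,7],1),
 ([3,8],1),
 ([4,5],2),
 ([4,6],1),
 ([4,7],1),
 ([4,8],2),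
 ([5,6],2),
 ([5,7],1),
 ([5,8],1),
 ([6,7],2),
 ([6,8],1),
 ([7,8],1)]

noncomputable def MuH3_1_n_2 : Net :=
 (Net.cons 16 (nat_lit 0x8000)
 (Net.cons 8 (nat_lit 0xf000800000)
 (Net.cons 4 (nat_lit 0xc0000)
 (Net.cons 2 (nat_lit 0x220000200000)
 (Net.cons 1 (nat_lit 0x115000400500)
 (Net.cons 2 (nat_lit 0x1220000221020)
 (Net.cons 4 (nat_lit 0x400000c0000)
 (Net.cons 8 (nat_lit 0xf000800000)
 (Net.cons 16 (nat_lit 0x8000)
 Net.nil)))))))))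

noncomputable def MuH3_1_n_3 : Net :=
 (Net.cons 16 (nat_lit 0x800000004000)
 (Net.cons 8 (nat_lit 0x80002000600040)
 (Net.cons 4 (nat_lit 0xc000a02060c00)
 (Net.cons 1 (nat_lit 0x40115001100010)
 (Net.cons 2 (nat_lit 0x2000000012100)
 (Net.cons 4 (nat_lit 0xc030a02060c00)
 (Net.cons 8 (nat_lit 0x80002000600040)
 (Net.cons 16 (nat_lit 0x800000004000)
 Net.nil))))))))

noncomputable def MuH3_1_n_4 : Net :=
 (Net.cons 32 (nat_lit 0x20000000)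
 (Net.cons 16 (nat_lit 0xa00000000000)
 (Net.cons 8 (nat_lit 0x2400000000)
 (Net.cons 4 (nat_lit 0x8020000000008)
 (Net.cons 2 (nat_lit 0x20020200020020)
 (Net.cons 1 (nat_lit 0x10040100010010)
 (Net.cons 2 (nat_lit 0x2020120201120320)
 (Net.cons 4 (nat_lit 0x8020200000008)
 (Net.cons 8 (nat_lit 0x2400000000)
 (Net.cons 16 (nat_lit 0xa00000000000)
 (Net.cons 32 (nat_lit 0x20000000)
 Net.nil)))))))))))

noncomputable def MuH3_1_n_5 : Net :=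
 (Net.cons 32 (nat_lit 0x40000000)
 (Net.cons 16 (nat_lit 0x400000006800)
 (Net.cons 8 (nat_lit 0x6800680000)
 (Net.cons 4 (nat_lit 0xc040a0c00)
 (Net.cons 2 (nat_lit 0x2000000)
 (Net.cons 1 (nat_lit 0x10000004410004)
 (Net.cons 2 (nat_lit 0x2112003000)
 (Net.cons 4 (nat_lit 0x30c040a0c00)
 (Net.cons 8 (nat_lit 0x6800680000)
 (Net.cons 16 (nat_lit 0x400000006800)
 (Net.cons 32 (nat_lit 0x40000000)
 Net.nil)))))))))))

noncomputable def MuH3_1_n_6 : Net :=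
 (Net.cons 16 (nat_lit 0x4000)
 (Net.cons 8 (nat_lit 0x4000480000)
 (Net.cons 4 (nat_lit 0xc0804040000)
 (Net.cons 2 (nat_lit 0x20000020022002)
 (Net.cons 1 (nat_lit 0x40400014041004)
 (Net.cons 2 (nat_lit 0x20012120022002)
 (Net.cons 4 (nat_lit 0xc08040d0000)
 (Net.cons 8 (nat_lit 0x4000480000)
 (Net.cons 16 (nat_lit 0x4000)
 Net.nil)))))))))

noncomputable def MuH3_1_n_7 : Net :=
 (Net.cons 32 (nat_lit 0x20000000)
 (Net.cons 16 (nat_lit 0x200000008000)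
 (Net.cons 8 (nat_lit 0xa000fa0000)
 (Net.cons 4 (nat_lit 0x80a00020000)
 (Net.cons 1 (nat_lit 0x40040100540001)
 (Net.cons 2 (nat_lit 0x3000000000)
 (Net.cons 4 (nat_lit 0x80a070e0000)
 (Net.cons 8 (nat_lit 0xa000fa0000)
 (Net.cons 16 (nat_lit 0x200000008000)
 (Net.cons 32 (nat_lit 0x20000000)
 Net.nil))))))))))

noncomputable def MuH3_1_n_8 : Net :=
 (Net.cons 32 (nat_lit 0x90000000)
 (Net.cons 16 (nat_lit 0x500000000000)
 (Net.cons 8 (nat_lit 0xc00090008800a0)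
 (Net.cons 4 (nat_lit 0x4000800080200)
 (Net.cons 1 (nat_lit 0x40000400400100)
 (Net.cons 2 (nat_lit 0x3000000002010)
 (Net.cons 4 (nat_lit 0x400090e080200)
 (Net.cons 8 (nat_lit 0xc00090008800a0)
 (Net.cons 16 (nat_lit 0xd00400000000)
 (Net.cons 32 (nat_lit 0x90000000)
 Net.nil))))))))))

noncomputable def MuH3_1_n : List Net := [Net.nil,
 Net.nil,
 MuH3_1_n_2,
 MuH3_1_n_3,
 MuH3_1_n_4,
 MuH3_1_n_5,
 MuH3_1_n_6,
 MuH3_1_n_7,
 MuH3_1_n_8]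

theorem MuH3_1_n_ok : NetsOK 64 MuH3_1_n := netsOK_of (by decide +kernel)

theorem MuH3_1_n_rel : Rels (gp MuH3_1_n) MuH3_1_R := rels_of_relsB (k := 6) MuH3_1_n_ok (by norm_num) (by decide +kernel)

theorem MuH3_1_fin : finB 64 MuH3_1_n [2,3,4,5,6,7,8] 56 (runH 64 MuH3_1_n (fun x p => ptInv (nth Net.nil MuH3_1_n x) p) iv MuH3_1_R [] ([2,3,4,5,6,8].map fun x => [x]) 0 []
  (apd [1,5,9,13,17,21,0,4,8,12,16,20,24,32,36,40,44,48,56,60,64,68,76,80,92,96,100,104,108,36,40,48,60,76,80,88,92,104,36,56,60,64,72,76,80,96,104,108,32,40,44,48,52,56,60,64,72,76,80,84]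
 (apd [88,92,96,100,104,108,28,32,36,40,44,48,52,56,60,64,68,72,76,80,84,88,96,100,104,108,28,32,36,40,48,52,68,72,76,80,84,88,92,96,32,36,48,52,56,60,64,68,72,76,80,104,108,28,32,36,40,44,52,60]
 [64,76,80,84,88,92,96,100,104,108]))
  (defsH 64 MuH3_1_n (ones 832) [7,6,5,4,8,3,4,5,6,7,2,3,4,5,6,8,4,5,3,4,8,2,3,4,5,6,7] (Nat.shiftLeft 1 0) 0)) = true := by decide +kernel

theorem MuH3_1_idx : Idx.{u} iv (MuH3_1_R ++ []) ([2,3,4,5,6,8].map fun x => [x]) [2,3,4,5,6,7,8] 56 :=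
  Reach.idx MuH3_1_n_ok (reach_runH MuH3_1_n_ok (fun x p _ => ptInv_gp MuH3_1_n_ok x p) MuH3_1_n_rel (reach_defsH MuH3_1_n_ok _ _ _ _ _ _) _ _) MuH3_1_fin (by norm_num)

end Cfsg.Lib.Comp.F24p
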