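import Cfsg.Agent.Lib.Comp.F24p.Base

set_option maxRecDepth 100000
set_option Elab.async false

namespace Cfsg.Lib.Comp.F24p

universe u

noncomputable def MuH3_2_R : List (List ℕ × ℕ) := [([2],1),
 ([3],1),
 ([4],1),
 ([5],1),
 ([6],1),
 ([8],1),
 ([2,3],2),
 ([2,4],1),
 ([2,5],1),
 ([2,6],1),
 ([2,8],1),
 ([3,4],2),
 ([3,5],1),
 ([3,6],1),
 ([3,8],1),
 ([4,5],2),
 ([4,6],1),
 ([4,8],2),
 ([5,6],2),
 ([5,8],1),
 ([6,8],1)]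

noncomputable def MuH3_2_n_2 : Net :=
 (Net.cons 16 (nat_lit 0x4000)
 (Net.cons 8 (nat_lit 0x400080)
 (Net.cons 4 (nat_lit 0x40800)
 (Net.cons 2 (nat_lit 0x2000000)
 (Net.cons 1 (nat_lit 0x4000500)
 (Net.cons 2 (nat_lit 0x2012310)
 (Net.cons 4 (nat_lit 0x40800)
 (Net.cons 8 (nat_lit 0x400080)
 (Net.cons 16 (nat_lit 0x4000)
 Net.nil)))))))))

noncomputable def MuH3_2_n_3 : Net :=
 (Net.cons 4 (nat_lit 0x40a)
 (Net.cons 2 (nat_lit 0x20)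
 (Net.cons 1 (nat_lit 0x1000010)
 (Net.cons 2 (nat_lit 0x13022)
 (Net.cons 4 (nat_lit 0x40a)
 Net.nil)))))

noncomputable def MuH3_2_n_4 : Net :=
 (Net.cons 16 (nat_lit 0x8000)
 (Net.cons 8 (nat_lit 0x800080)
 (Net.cons 4 (nat_lit 0x80c0800)
 (Net.cons 2 (nat_lit 0x2000000)
 (Net.cons 1 (nat_lit 0x1400004)
 (Net.cons 2 (nat_lit 0x2020300)
 (Net.cons 4 (nat_lit 0x80c0800)
 (Net.cons 8 (nat_lit 0x800080)
 (Net.cons 16 (nat_lit 0x8000)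
 Net.nil)))))))))

noncomputable def MuH3_2_n_5 : Net :=
 (Net.cons 4 (nat_lit 0xc0400)
 (Net.cons 2 (nat_lit 0x2)
 (Net.cons 1 (nat_lit 0x45004)
 (Net.cons 2 (nat_lit 0x203202)
 (Net.cons 4 (nat_lit 0xc0400)
 Net.nil)))))

noncomputable def MuH3_2_n_6 : Net :=
 (Net.cons 16 (nat_lit 0xa000)
 (Net.cons 8 (nat_lit 0xa00000)
 (Net.cons 4 (nat_lit 0xc0800)
 (Net.cons 2 (nat_lit 0x220000)
 (Net.cons 1 (nat_lit 0x414001)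
 (Net.cons 2 (nat_lit 0x110000)
 (Net.cons 4 (nat_lit 0x30800)
 (Net.cons 8 (nat_lit 0xa00000)
 (Net.cons 16 (nat_lit 0xa000)
 Net.nil)))))))))

noncomputable def MuH3_2_n_8 : Net :=
 (Net.cons 8 (nat_lit 0x40)
 (Net.cons 4 (nat_lit 0xa0402)
 (Net.cons 2 (nat_lit 0x20)
 (Net.cons 1 (nat_lit 0x500010)
 (Net.cons 2 (nat_lit 0x20122)
 (Net.cons 4 (nat_lit 0xa0402)
 (Net.cons 8 (nat_lit 0x40)
 Net.nil)))))))

noncomputable def MuH3_2_n : List Net := [Net.nil,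
 Net.nil,
 MuH3_2_n_2,
 MuH3_2_n_3,
 MuH3_2_n_4,
 MuH3_2_n_5,
 MuH3_2_n_6,
 Net.nil,
 MuH3_2_n_8]

theorem MuH3_2_n_ok : NetsOK 32 MuH3_2_n := netsOK_of (by decide +kernel)

theorem MuH3_2_n_rel : Rels (gp MuH3_2_n) MuH3_2_R := rels_of_relsB (k := 5) MuH3_2_n_ok (by norm_num) (by decide +kernel)

theorem MuH3_2_fin : finB 32 MuH3_2_n [2,3,4,5,6,8] 27 (runH 32 MuH3_2_n (fun x p => ptInv (nth Net.nil MuH3_2_n x) p) iv MuH3_2_R [] ([2,3,4,5,8].map fun x => [x]) 0 []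
  (apd [1,5,9,13,17,0,4,8,12,16,20,28,32,36,48,52,56,64,72,76,80,32,40,48,60,64,76,80,28,40,44,48,52,60,64,68,72,76,80,24,28,32,36,40,44,48,52,56,60,68,72,76,80,24,28,32,40,44,56,60]
 [64,28,40,48,52,24,32,36])
  (defsH 32 MuH3_2_n (ones 416) [6,5,4,8,3,4,5,6,2,3,4,5,8,4,3,2] (Nat.shiftLeft 1 0) 0)) = true := by decide +kernel

theorem MuH3_2_idx : Idx.{u} iv (MuH3_2_R ++ []) ([2,3,4,5,8].map fun x => [x]) [2,3,4,5,6,8] 27 :=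
  Reach.idx MuH3_2_n_ok (reach_runH MuH3_2_n_ok (fun x p _ => ptInv_gp MuH3_2_n_ok x p) MuH3_2_n_rel (reach_defsH MuH3_2_n_ok _ _ _ _ _ _) _ _) MuH3_2_fin (by norm_num)

end Cfsg.Lib.Comp.F24p
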