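import Cfsg.Agent.Lib.Comp.F24p.Base

set_option maxRecDepth 100000
set_option Elab.async false

namespace Cfsg.Lib.Comp.F24p

universe u

noncomputable def MuH3_5_R : List (List ℕ × ℕ) := [([3],1),
 ([4],1),
 ([5],1),
 ([3,4],2),
 ([3,5],1),
 ([4,5],2)]

noncomputable def MuH3_5_n_3 : Net :=
 (Net.cons 1 (nat_lit 0x4)
 Net.nil)

noncomputable def MuH3_5_n_4 : Net :=
 (Net.cons 2 (nat_lit 0x2)
 (Net.cons 1 (nat_lit 0x4)
 (Net.cons 2 (nat_lit 0x2)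
 Net.nil)))

noncomputable def MuH3_5_n_5 : Net :=
 (Net.cons 1 (nat_lit 0x1)
 Net.nil)

noncomputable def MuH3_5_n : List Net := [Net.nil,
 Net.nil,
 Net.nil,
 MuH3_5_n_3,
 MuH3_5_n_4,
 MuH3_5_n_5]

theorem MuH3_5_n_ok : NetsOK 4 MuH3_5_n := netsOK_of (by decide +kernel)

theorem MuH3_5_n_rel : Rels (gp MuH3_5_n) MuH3_5_R := rels_of_relsB (k := 2) MuH3_5_n_ok (by norm_num) (by decide +kernel)

theorem MuH3_5_fin : finB 4 MuH3_5_n [3,4,5] 4 (runH 4 MuH3_5_n (fun x p => ptInv (nth Net.nil MuH3_5_n x) p) iv MuH3_5_R [] ([3,4].map fun x => [x]) 0 []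
  [1,5,0,4,8,16,20,12,16]
  (defsH 4 MuH3_5_n (ones 52) [5,4,3] (Nat.shiftLeft 1 0) 0)) = true := by decide +kernel

theorem MuH3_5_idx : Idx.{u} iv (MuH3_5_R ++ []) ([3,4].map fun x => [x]) [3,4,5] 4 :=
  Reach.idx MuH3_5_n_ok (reach_runH MuH3_5_n_ok (fun x p _ => ptInv_gp MuH3_5_n_ok x p) MuH3_5_n_rel (reach_defsH MuH3_5_n_ok _ _ _ _ _ _) _ _) MuH3_5_fin (by norm_num)

end Cfsg.Lib.Comp.F24p
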