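import Cfsg.Agent.Lib.Comp.F24p.Base

set_option maxRecDepth 100000
set_option Elab.async false

namespace Cfsg.Lib.Comp.F24p

universe u

noncomputable def MuH3_7_R : List (List ℕ × ℕ) := [([3],1)]

noncomputable def MuH3_7_n_3 : Net :=
 (Net.cons 1 (nat_lit 0x1)
 Net.nil)

noncomputable def MuH3_7_n : List Net := [Net.nil,
 Net.nil,
 Net.nil,
 MuH3_7_n_3]

theorem MuH3_7_n_ok : NetsOK 2 MuH3_7_n := netsOK_of (by decide +kernel)

theorem MuH3_7_n_rel : Rels (gp MuH3_7_n) MuH3_7_R := rels_of_relsB (k := 1) MuH3_7_n_ok (by norm_num) (by decide +kernel)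

theorem MuH3_7_fin : finB 2 MuH3_7_n [3] 2 (runH 2 MuH3_7_n (fun x p => ptInv (nth Net.nil MuH3_7_n x) p) iv MuH3_7_R [] ([].map fun x => [x]) 0 []
  [0]
  (defsH 2 MuH3_7_n (ones 26) [3] (Nat.shiftLeft 1 0) 0)) = true := by decide +kernel

theorem MuH3_7_idx : Idx.{u} iv (MuH3_7_R ++ []) ([].map fun x => [x]) [3] 2 :=
  Reach.idx MuH3_7_n_ok (reach_runH MuH3_7_n_ok (fun x p _ => ptInv_gp MuH3_7_n_ok x p) MuH3_7_n_rel (reach_defsH MuH3_7_n_ok _ _ _ _ _ _) _ _) MuH3_7_fin (by norm_num)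

end Cfsg.Lib.Comp.F24p
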