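import Cfsg.Agent.Lib.Comp.F24p.MuH0_0
import Cfsg.Agent.Lib.Comp.F24p.MuH0_1
import Cfsg.Agent.Lib.Comp.F24p.MuH0_2
import Cfsg.Agent.Lib.Comp.F24p.MuH0_3
import Cfsg.Agent.Lib.Comp.F24p.MuH0_4
import Cfsg.Agent.Lib.Comp.F24p.MuH0_5
import Cfsg.Agent.Lib.Comp.F24p.MuH0_6
import Cfsg.Agent.Lib.Comp.F24p.MuH0_7
import Cfsg.Agent.Lib.Comp.F24p.MuH1_0
import Cfsg.Agent.Lib.Comp.F24p.MuH1_1
import Cfsg.Agent.Lib.Comp.F24p.MuH1_2
import Cfsg.Agent.Lib.Comp.F24p.MuH1_3
import Cfsg.Agent.Lib.Comp.F24p.MuH1_4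
import Cfsg.Agent.Lib.Comp.F24p.MuH1_5
import Cfsg.Agent.Lib.Comp.F24p.MuH1_6
import Cfsg.Agent.Lib.Comp.F24p.MuH1_7
import Cfsg.Agent.Lib.Comp.F24p.MuH2_0
import Cfsg.Agent.Lib.Comp.F24p.MuH2_1
import Cfsg.Agent.Lib.Comp.F24p.MuH2_2
import Cfsg.Agent.Lib.Comp.F24p.MuH2_3
import Cfsg.Agent.Lib.Comp.F24p.MuH2_4
import Cfsg.Agent.Lib.Comp.F24p.MuH2_5
import Cfsg.Agent.Lib.Comp.F24p.MuH2_6
import Cfsg.Agent.Lib.Comp.F24p.MuH2_7
import Cfsg.Agent.Lib.Comp.F24p.MuH2_8
import Cfsg.Agent.Lib.Comp.F24p.MuH3_0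
import Cfsg.Agent.Lib.Comp.F24p.MuH3_1
import Cfsg.Agent.Lib.Comp.F24p.MuH3_2
import Cfsg.Agent.Lib.Comp.F24p.MuH3_3
import Cfsg.Agent.Lib.Comp.F24p.MuH3_4
import Cfsg.Agent.Lib.Comp.F24p.MuH3_5
import Cfsg.Agent.Lib.Comp.F24p.MuH3_6
import Cfsg.Agent.Lib.Comp.F24p.MuH3_7
import Cfsg.Agent.Lib.Comp.F24p.Mu1
import Cfsg.Agent.Lib.Comp.F24p.Main
import Cfsg.Agent.Lib.Comp.Cover

set_option maxRecDepth 100000
set_option Elab.async false

namespace Cfsg.Lib.Comp.F24p

universe u

theorem MuH0_7_ord : Ord.{u} iv MuH0_7_R [3] 2 :=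
  (MuH0_7_idx.ord_base).of_cons (cons_of_subset (by decide +kernel))

theorem MuH0_6_ord : Ord.{u} iv MuH0_6_R [3,4] 6 :=
  (MuH0_6_idx.ord_step MuH0_7_ord).of_cons (cons_of_subset (by decide +kernel))

theorem MuH0_5_ord : Ord.{u} iv MuH0_5_R [3,4,5] 24 :=
  (MuH0_5_idx.ord_step MuH0_6_ord).of_cons (cons_of_subset (by decide +kernel))

theorem MuH0_4_ord : Ord.{u} iv MuH0_4_R [3,4,5,8] 192 :=
  (MuH0_4_idx.ord_step MuH0_5_ord).of_cons (cons_of_subset (by decide +kernel))

theorem MuH0_3_ord : Ord.{u} iv MuH0_3_R [2,3,4,5,8] 1920 :=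
  (MuH0_3_idx.ord_step MuH0_4_ord).of_cons (cons_of_subset (by decide +kernel))

theorem MuH0_2_ord : Ord.{u} iv MuH0_2_R [1,2,3,4,5,8] 23040 :=
  (MuH0_2_idx.ord_step MuH0_3_ord).of_cons (cons_of_subset (by decide +kernel))

theorem MuH0_1_ord : Ord.{u} iv MuH0_1_R [1,2,3,4,5,7,8] 46080 :=
  (MuH0_1_idx.ord_step MuH0_2_ord).of_cons (cons_of_subset (by decide +kernel))

theorem MuH0_0_ord : Ord.{u} iv MuH0_0_R [1,2,3,4,5,7,8,10] 138240 :=
  (MuH0_0_idx.ord_step MuH0_1_ord).of_cons (cons_of_subset (by decide +kernel))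

noncomputable def MuH0_lb_n_1 : Net :=
 (Net.cons 48 (nat_lit 0xe00cfff00000)
 (Net.cons 24 (nat_lit 0xec0008000000103888)
 (Net.cons 12 (nat_lit 0xc00000c100000680009b2)
 (Net.cons 6 (nat_lit 0x801001a00a02a010014)
 (Net.cons 3 (nat_lit 0x80080000182104002000000)
 (Net.cons 1 (nat_lit 0x40200200048241008200249)
 (Net.cons 1 (nat_lit 0x400000000492402092092482)
 (Net.cons 1 (nat_lit 0x41201001000241)
 (Net.cons 3 (nat_lit 0x80080000185104005000140)
 (Net.cons 6 (nat_lit 0x801001a00a02a016014)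
 (Net.cons 12 (nat_lit 0xc00000c100000680009b2)
 (Net.cons 24 (nat_lit 0xec0008000000103b8e)
 (Net.cons 48 (nat_lit 0xe00cfff00000)
 Net.nil)))))))))))))

noncomputable def MuH0_lb_n_2 : Net :=
 (Net.cons 48 (nat_lit 0xfc0ca31000a0)
 (Net.cons 24 (nat_lit 0xde1800000000e69c00)
 (Net.cons 12 (nat_lit 0x320000700000280)
 (Net.cons 6 (nat_lit 0x802203400002803c020010)
 (Net.cons 3 (nat_lit 0x104180000100000100000)
 (Net.cons 1 (nat_lit 0x240241000208040000008)
 (Net.cons 1 (nat_lit 0x82082000410400080400)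
 (Net.cons 1 (nat_lit 0x40041000208000000000)
 (Net.cons 3 (nat_lit 0x101104086000180007140000)
 (Net.cons 6 (nat_lit 0x802201102002803c020010)
 (Net.cons 12 (nat_lit 0x320000700000281)
 (Net.cons 24 (nat_lit 0xde1800000000e69c00)
 (Net.cons 48 (nat_lit 0xfc0ca31000a0)
 Net.nil)))))))))))))

noncomputable def MuH0_lb_n_3 : Net :=
 (Net.cons 48 (nat_lit 0xc00000000000)
 (Net.cons 24 (nat_lit 0xa20000000000800000)
 (Net.cons 12 (nat_lit 0x700000c00000800000c00)
 (Net.cons 6 (nat_lit 0x1c000010010000020038030)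
 (Net.cons 3 (nat_lit 0x82000002000002002080000)
 (Net.cons 1 (nat_lit 0x48000209000001001200000)
 (Net.cons 1 (nat_lit 0x2000410000012010480000)
 (Net.cons 1 (nat_lit 0x208000001000200000)
 (Net.cons 3 (nat_lit 0x820c3002146002002086180)
 (Net.cons 6 (nat_lit 0x1c01b038034000020038030)
 (Net.cons 12 (nat_lit 0x700000c00000800000c00)
 (Net.cons 24 (nat_lit 0xe20002000000800000)
 (Net.cons 48 (nat_lit 0xc00000000000)
 Net.nil)))))))))))))

noncomputable def MuH0_lb_n_4 : Net :=
 (Net.cons 24 (nat_lit 0x800000000000000000)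
 (Net.cons 12 (nat_lit 0xe00000000000000000000)
 (Net.cons 6 (nat_lit 0x20010020000)
 (Net.cons 3 (nat_lit 0x104100080104080100000)
 (Net.cons 1 (nat_lit 0x40208209201208040041248)
 (Net.cons 1 (nat_lit 0x402092400012090002482080)
 (Net.cons 1 (nat_lit 0x8200001008000041040)
 (Net.cons 3 (nat_lit 0x104100080104080100000)
 (Net.cons 6 (nat_lit 0x22000000020010020000)
 (Net.cons 12 (nat_lit 0xe00000000000000000000)
 (Net.cons 24 (nat_lit 0x800000000000000000)
 Net.nil)))))))))))

noncomputable def MuH0_lb_n_5 : Net :=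
 (Net.cons 12 (nat_lit 0xc00000000000000000000)
 (Net.cons 6 (nat_lit 0x20000000020000020000000)
 (Net.cons 3 (nat_lit 0x104000000)
 (Net.cons 1 (nat_lit 0x9049200240048048240000)
 (Net.cons 1 (nat_lit 0x92400012482400090002490)
 (Net.cons 1 (nat_lit 0x9000000240000048000000)
 (Net.cons 3 (nat_lit 0x5000000140000104000000)
 (Net.cons 6 (nat_lit 0x20000000020000020000000)
 (Net.cons 12 (nat_lit 0xc00000000000000000000)
 Net.nil)))))))))

noncomputable def MuH0_lb_n_7 : Net :=
 (Net.cons 48 (nat_lit 0x80001c001c0)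
 (Net.cons 24 (nat_lit 0x426600000000f1c4c0)
 (Net.cons 12 (nat_lit 0x800000f9a000c00000a82)
 (Net.cons 6 (nat_lit 0x2800803c03002000403c004)
 (Net.cons 3 (nat_lit 0x2102102082000080000000)
 (Net.cons 1 (nat_lit 0x201008009208000041000001)
 (Net.cons 1 (nat_lit 0x412400410480000402002002)
 (Net.cons 1 (nat_lit 0x201000008200000001000001)
 (Net.cons 3 (nat_lit 0x821021420821430801c0080)
 (Net.cons 6 (nat_lit 0x2800803a03502000402c03c)
 (Net.cons 12 (nat_lit 0x800000e8e000c00000e12)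
 (Net.cons 24 (nat_lit 0x426600000000f1c5c1)
 (Net.cons 48 (nat_lit 0x80001c001c0)
 Net.nil)))))))))))))

noncomputable def MuH0_lb_n_8 : Net :=
 (Net.cons 48 (nat_lit 0x177c851e0000)
 (Net.cons 24 (nat_lit 0x92c000000000a0a100)
 (Net.cons 12 (nat_lit 0xa20000d00000410000308)
 (Net.cons 6 (nat_lit 0x3801001000800001a00c)
 (Net.cons 3 (nat_lit 0x102000004100100000100000)
 (Net.cons 1 (nat_lit 0x208000000000240000201000)
 (Net.cons 1 (nat_lit 0x400010010400090000400002)
 (Net.cons 1 (nat_lit 0x200000000000040000200000)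
 (Net.cons 3 (nat_lit 0x102101004101100002180001)
 (Net.cons 6 (nat_lit 0x2003803001000800001a00c)
 (Net.cons 12 (nat_lit 0xa20000d00000410000348)
 (Net.cons 24 (nat_lit 0x92d080000000a0a304)
 (Net.cons 48 (nat_lit 0x177c851e0000)
 Net.nil)))))))))))))

noncomputable def MuH0_lb_n_10 : Net :=
 (Net.cons 48 (nat_lit 0x1c0060003180)
 (Net.cons 24 (nat_lit 0x370230000000581b80)
 (Net.cons 12 (nat_lit 0x2800004a00000aa000100)
 (Net.cons 6 (nat_lit 0x20018020000020008)
 (Net.cons 3 (nat_lit 0x80002100000100002004100)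
 (Net.cons 1 (nat_lit 0x200048040240008048001000)
 (Net.cons 1 (nat_lit 0x12080000082092002080)
 (Net.cons 1 (nat_lit 0x8040000000041001000)
 (Net.cons 3 (nat_lit 0x800021000c0100005004101)
 (Net.cons 6 (nat_lit 0x3000003c03802100002200c)
 (Net.cons 12 (nat_lit 0x2800004a7000aaa000504)
 (Net.cons 24 (nat_lit 0x370230000000581b80)
 (Net.cons 48 (nat_lit 0xc0060007184)
 Net.nil)))))))))))))

noncomputable def MuH0_lb_n_64 : Net :=
 (Net.cons 48 (nat_lit 0xe000c080000)
 (Net.cons 24 (nat_lit 0x6e0400000000123040)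
 (Net.cons 12 (nat_lit 0x3000004f00000f0000e48)
 (Net.cons 6 (nat_lit 0x1001001000a00000c020020)
 (Net.cons 3 (nat_lit 0x2080080006002080080082)
 (Net.cons 1 (nat_lit 0x1200040241041240041208)
 (Net.cons 1 (nat_lit 0x480092412090080482080)
 (Net.cons 1 (nat_lit 0x200001201040040041000)
 (Net.cons 3 (nat_lit 0x42080086006002080080086)
 (Net.cons 6 (nat_lit 0x1001000500a00000c025020)
 (Net.cons 12 (nat_lit 0x3000004f00000f0000e48)
 (Net.cons 24 (nat_lit 0x6e0400000000123040)
 (Net.cons 48 (nat_lit 0xe000c080000)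
 Net.nil)))))))))))))

noncomputable def MuH0_lb_n_65 : Net :=
 (Net.cons 48 (nat_lit 0x1000044008)
 (Net.cons 24 (nat_lit 0x909200000000140620)
 (Net.cons 12 (nat_lit 0x220000dc2000000000218)
 (Net.cons 6 (nat_lit 0x20000010018010018030000)
 (Net.cons 3 (nat_lit 0x80100000004004004082)
 (Net.cons 1 (nat_lit 0x200041008000008048208)
 (Net.cons 1 (nat_lit 0x400010080080010010492000)
 (Net.cons 1 (nat_lit 0x40000000008048000)
 (Net.cons 3 (nat_lit 0x4080180040004006004086)
 (Net.cons 6 (nat_lit 0x2800001001801901803000a)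
 (Net.cons 12 (nat_lit 0x222000dc2000000000218)
 (Net.cons 24 (nat_lit 0x909200000000140620)
 (Net.cons 48 (nat_lit 0x1000044008)
 Net.nil)))))))))))))

noncomputable def MuH0_lb_n_66 : Net :=
 (Net.cons 24 (nat_lit 0xf0f0000000007f0000)
 (Net.cons 12 (nat_lit 0xf000000000000f00001c0)
 (Net.cons 6 (nat_lit 0xc00000c00002400c020000)
 (Net.cons 3 (nat_lit 0x82000182000084100000000)
 (Net.cons 1 (nat_lit 0x48000209000240048008000)
 (Net.cons 1 (nat_lit 0x412000482000410492010002)
 (Net.cons 1 (nat_lit 0x8000041000200201008000)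
 (Net.cons 3 (nat_lit 0x820000420000840c7000000)
 (Net.cons 6 (nat_lit 0xc03f00c00002400c027038)
 (Net.cons 12 (nat_lit 0xf000000000000f00001c0)
 (Net.cons 24 (nat_lit 0xf0f0000000007f0000)
 Net.nil)))))))))))

noncomputable def MuH0_lb_n_67 : Net :=
 (Net.cons 24 (nat_lit 0x800000)
 (Net.cons 12 (nat_lit 0xfc0000000000800000000)
 (Net.cons 6 (nat_lit 0x3000000000001802c020000)
 (Net.cons 3 (nat_lit 0x180000000000000004000000)
 (Net.cons 1 (nat_lit 0x200000000000241241248000)
 (Net.cons 1 (nat_lit 0x480000000400000482000000)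
 (Net.cons 1 (nat_lit 0x200000000000000241000000)
 (Net.cons 3 (nat_lit 0x1871c00070000c40061c0000)
 (Net.cons 6 (nat_lit 0x3000000000001802c020000)
 (Net.cons 12 (nat_lit 0xfc0000000000800000000)
 (Net.cons 24 (nat_lit 0x800000)
 Net.nil)))))))))))

noncomputable def MuH0_lb_n : List Net := (apd [Net.nil,
 MuH0_lb_n_1,
 MuH0_lb_n_2,
 MuH0_lb_n_3,
 MuH0_lb_n_4,
 MuH0_lb_n_5,
 Net.nil,
 MuH0_lb_n_7,
 MuH0_lb_n_8,
 Net.nil,
 MuH0_lb_n_10,
 Net.nil,
 Net.nil,
 Net.nil,
 Net.nil,
 Net.nil,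
 Net.nil,
 Net.nil,
 Net.nil,
 Net.nil,
 Net.nil,
 Net.nil,
 Net.nil,
 Net.nil,
 Net.nil,
 Net.nil,
 Net.nil,
 Net.nil,
 Net.nil,
 Net.nil,
 Net.nil,
 Net.nil,
 Net.nil,
 Net.nil,
 Net.nil,
 Net.nil,
 Net.nil,
 Net.nil,
 Net.nil,
 Net.nil]
 [Net.nil,
 Net.nil,
 Net.nil,
 Net.nil,
 Net.nil,
 Net.nil,
 Net.nil,
 Net.nil,
 Net.nil,
 Net.nil,
 Net.nil,
 Net.nil,
 Net.nil,
 Net.nil,
 Net.nil,
 Net.nil,
 Net.nil,
 Net.nil,
 Net.nil,
 Net.nil,
 Net.nil,
 Net.nil,
 Net.nil,
 Net.nil,
 MuH0_lb_n_64,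
 MuH0_lb_n_65,
 MuH0_lb_n_66,
 MuH0_lb_n_67])

theorem MuH0_lb_n_ok : NetsOK 96 MuH0_lb_n := netsOK_of (by decide +kernel)

theorem MuH0_lb : 138240 ≤ Nat.card (cl (gp Fi23.nets) [1,2,3,4,5,7,8,10]) :=
  lb_of_itwB (k := 7) (n := 96) Fi23.nets_ok MuH0_lb_n_ok (by norm_num) (by norm_num) (tbA_pt Fi23.nets_ok) (tbA_pt MuH0_lb_n_ok) (φ := look2 (nat_lit 0xdd600dd500e1d00fd800fd700ec300ed100e0500b1f00b1e00b3800c2600c2500ba400bb300b25019f6019f5018eb024140241302303000a7000a600031002d7002d60025f0230d0026a00b1d00b1c00b3400c1e00c1d00ba000baf00b210009d0009c0002e002d3002d20025b00267002d9002d8002660009b0009a000230025a00c2000c1f00bac00b1100b1000b2000b3000b9f018ed00032018e1000250002f00fdc00fdb00ecd00dd000dcf00e0200e1600ec100c2800c2700bb000b1500b1400b2300b3500ba202418024170230b019f4019f3018e3002e3002e200269000a3000a200027023010025d00022) 20 64) (by decide +kernel) (by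
    rw [← cl_eq_of_slpB (k := 7) (D := [(64,[2,3,8,1,8,3,2]),
 (65,[7,8,4,3,2,3,4,8,7]),
 (66,[2,8,10,7,10,8,2]),
 (67,[64,3,4,65,5,65,4,3,64])]) MuH0_lb_n_ok (by norm_num) (by decide +kernel)]
    exact lb_of_chainB MuH0_lb_n_ok (C := [([3,4,5,64,65,66,67],[1,7,8,2,4,10,3,5,67,2,1,67],0,0,96),
 ([3,4,5,67],[64,65,66,3,5,4,67],1,1,30),
 ([4,5],[3,67,4,5],36,36,8),
 ([5],[4,5],45,45,3),
 ([],[5],46,46,2)]) (by decide +kernel))

theorem MuH1_7_ord : Ord.{u} iv MuH1_7_R [3] 2 :=
  (MuH1_7_idx.ord_base).of_cons (cons_of_subset (by decide +kernel))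

theorem MuH1_6_ord : Ord.{u} iv MuH1_6_R [3,4] 6 :=
  (MuH1_6_idx.ord_step MuH1_7_ord).of_cons (cons_of_subset (by decide +kernel))

theorem MuH1_5_ord : Ord.{u} iv MuH1_5_R [3,4,5] 24 :=
  (MuH1_5_idx.ord_step MuH1_6_ord).of_cons (cons_of_subset (by decide +kernel))

theorem MuH1_4_ord : Ord.{u} iv MuH1_4_R [3,4,5,8] 192 :=
  (MuH1_4_idx.ord_step MuH1_5_ord).of_cons (cons_of_subset (by decide +kernel))

theorem MuH1_3_ord : Ord.{u} iv MuH1_3_R [2,3,4,5,8] 1920 :=
  (MuH1_3_idx.ord_step MuH1_4_ord).of_cons (cons_of_subset (by decide +kernel))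

theorem MuH1_2_ord : Ord.{u} iv MuH1_2_R [2,3,4,5,6,8] 51840 :=
  (MuH1_2_idx.ord_step MuH1_3_ord).of_cons (cons_of_subset (by decide +kernel))

theorem MuH1_1_ord : Ord.{u} iv MuH1_1_R [1,2,3,4,5,6,8] 1451520 :=
  (MuH1_1_idx.ord_step MuH1_2_ord).of_cons (cons_of_subset (by decide +kernel))

theorem MuH1_0_ord : Ord.{u} iv MuH1_0_R [1,2,3,4,5,6,8,10] 2903040 :=
  (MuH1_0_idx.ord_step MuH1_1_ord).of_cons (cons_of_subset (by decide +kernel))

noncomputable def MuH1_lb_n_1 : Net :=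
 (Net.cons 64 (nat_lit 0x40000000)
 (Net.cons 32 (nat_lit 0x40000000)
 (Net.cons 16 (nat_lit 0xfff800000480)
 (Net.cons 8 (nat_lit 0x4004000040078)
 (Net.cons 4 (nat_lit 0xe08000400080c00)
 (Net.cons 2 (nat_lit 0x20000000202000000200020000)
 (Net.cons 1 (nat_lit 0x40000000401104000400011401)
 (Net.cons 2 (nat_lit 0x20000000200301000200032300)
 (Net.cons 4 (nat_lit 0xc08000400080e00)
 (Net.cons 8 (nat_lit 0x7c004000040000)
 (Net.cons 16 (nat_lit 0xfff800000480)
 (Net.cons 32 (nat_lit 0x7fff000000004001fffc)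
 (Net.cons 64 (nat_lit 0x40000000)
 Net.nil)))))))))))))

noncomputable def MuH1_lb_n_2 : Net :=
 (Net.cons 64 (nat_lit 0x200000000)
 (Net.cons 32 (nat_lit 0xbfff800000000000fffc0000)
 (Net.cons 16 (nat_lit 0x800000002aaa0000000000000002)
 (Net.cons 8 (nat_lit 0x80000000000000000000000000)
 (Net.cons 4 (nat_lit 0x8000000000000000000000000)
 (Net.cons 1 (nat_lit 0x155555550000000000000001)
 (Net.cons 2 (nat_lit 0x2000033330000000000000000)
 (Net.cons 4 (nat_lit 0x8000009090000000000000000)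
 (Net.cons 8 (nat_lit 0x80000000810000000000000000)
 (Net.cons 16 (nat_lit 0x800000002aaa0000fffd00000002)
 (Net.cons 32 (nat_lit 0xbfff800000000000fffc0000)
 (Net.cons 64 (nat_lit 0x200000000)
 Net.nil))))))))))))

noncomputable def MuH1_lb_n_3 : Net :=
 (Net.cons 64 (nat_lit 0x8000000100000000)
 (Net.cons 32 (nat_lit 0xaa01f806)
 (Net.cons 16 (nat_lit 0x8000000040000000001000000000)
 (Net.cons 8 (nat_lit 0x800000006c0000008000000000)
 (Net.cons 4 (nat_lit 0x8060000060208000000)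
 (Net.cons 2 (nat_lit 0x20000020000000202202000002)
 (Net.cons 1 (nat_lit 0x15000040105500154154000004)
 (Net.cons 2 (nat_lit 0x2000000010000200132000003)
 (Net.cons 4 (nat_lit 0xf00000c060001060c08000000)
 (Net.cons 8 (nat_lit 0x800000006c000000c800000000)
 (Net.cons 16 (nat_lit 0x8000000040000000001000000000)
 (Net.cons 32 (nat_lit 0x3fc0007e00000000aa01f801)
 (Net.cons 64 (nat_lit 0x8000000100000000)
 Net.nil)))))))))))))

noncomputable def MuH1_lb_n_4 : Net :=
 (Net.cons 32 (nat_lit 0x200000)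
 (Net.cons 16 (nat_lit 0x8000000080000000000000000000)
 (Net.cons 8 (nat_lit 0xb8007000000070000000c400c40000)
 (Net.cons 4 (nat_lit 0x80000000000000002000600040200)
 (Net.cons 2 (nat_lit 0x22002200000)
 (Net.cons 1 (nat_lit 0x550055000000550001041504141504)
 (Net.cons 2 (nat_lit 0x120012000000120000022002200300)
 (Net.cons 4 (nat_lit 0x7000f0000000f0002000600040200)
 (Net.cons 8 (nat_lit 0xb8007000870070001e00c400c40000)
 (Net.cons 16 (nat_lit 0x8000000080000000002100000000)
 (Net.cons 32 (nat_lit 0x200000)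
 Net.nil)))))))))))

noncomputable def MuH1_lb_n_5 : Net :=
 (Net.cons 16 (nat_lit 0x2000)
 (Net.cons 8 (nat_lit 0xc0008000c000800000001000b00098)
 (Net.cons 4 (nat_lit 0x4040804040208080004000000020000)
 (Net.cons 2 (nat_lit 0x20000200000020000000002220)
 (Net.cons 1 (nat_lit 0x44001400000014000000011110)
 (Net.cons 2 (nat_lit 0x1100220010202200120022022002220)
 (Net.cons 4 (nat_lit 0xc0609040c02090c0204050005020900)
 (Net.cons 8 (nat_lit 0xc0008000c000800000001000b00098)
 (Net.cons 16 (nat_lit 0x2000)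
 Net.nil)))))))))

noncomputable def MuH1_lb_n_6 : Net :=
 (Net.cons 16 (nat_lit 0xc000)
 (Net.cons 8 (nat_lit 0xc00000)
 (Net.cons 4 (nat_lit 0x80800000808000000000c0c0c0c0c00)
 (Net.cons 2 (nat_lit 0x20200202200002022000202020202000)
 (Net.cons 1 (nat_lit 0x11111404110114144404141414101510)
 (Net.cons 2 (nat_lit 0x20200212202002022020202020212000)
 (Net.cons 4 (nat_lit 0x80800000808000000000c0c0c0c0c00)
 (Net.cons 8 (nat_lit 0xc00000)
 (Net.cons 16 (nat_lit 0xc000)
 Net.nil)))))))))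

noncomputable def MuH1_lb_n_8 : Net :=
 (Net.cons 32 (nat_lit 0x27000000)
 (Net.cons 8 (nat_lit 0x80000000800020002000000070)
 (Net.cons 4 (nat_lit 0x2000000020000000602060204000000)
 (Net.cons 1 (nat_lit 0x15405500154055005401540155000000)
 (Net.cons 2 (nat_lit 0x3001200030012003000300030000000)
 (Net.cons 4 (nat_lit 0x2000f0002000f000602060204000708)
 (Net.cons 8 (nat_lit 0x80000000800020002000000070)
 (Net.cons 16 (nat_lit 0x200100000000)
 (Net.cons 32 (nat_lit 0x27000000)
 Net.nil)))))))))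

noncomputable def MuH1_lb_n_10 : Net :=
 (Net.cons 64 (nat_lit 0x294a54a4b5ad6ad6)
 (Net.cons 32 (nat_lit 0x1d17080000000000a0000000)
 (Net.cons 16 (nat_lit 0xc250000010000000fdee00000000)
 (Net.cons 8 (nat_lit 0x5800a0005000f0000400c200300080)
 (Net.cons 4 (nat_lit 0x804040008020c02000804000a000002)
 (Net.cons 2 (nat_lit 0x20000002000200200000)
 (Net.cons 1 (nat_lit 0x5500100144514100004050150400001)
 (Net.cons 2 (nat_lit 0x30033213333311332333323113133231)
 (Net.cons 4 (nat_lit 0xb070d02070202020d06050e0b0b0709)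
 (Net.cons 8 (nat_lit 0xb700aa00c000c000c0003000c20005)
 (Net.cons 16 (nat_lit 0xd0500000c0020000ff7b00000001)
 (Net.cons 32 (nat_lit 0x1d177fbd000000005fffffff)
 (Net.cons 64 (nat_lit 0x294a54a4b5ad6ad6)
 Net.nil)))))))))))))

noncomputable def MuH1_lb_n_64 : Net :=
 (Net.cons 32 (nat_lit 0xc00000000000000000000000)
 (Net.cons 16 (nat_lit 0x803200002a80000055000000f800)
 (Net.cons 8 (nat_lit 0x80000000800080000000800000)
 (Net.cons 4 (nat_lit 0x400000000000008080000060c0000)
 (Net.cons 2 (nat_lit 0x200000000000000202000020020002)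
 (Net.cons 1 (nat_lit 0x40400041154055005401550015440004)
 (Net.cons 2 (nat_lit 0x220033000033003202000020200002)
 (Net.cons 4 (nat_lit 0x5000f000009000808000006030000)
 (Net.cons 8 (nat_lit 0x80000000800080000000c80000)
 (Net.cons 16 (nat_lit 0x803200002a80000055000000f806)
 (Net.cons 32 (nat_lit 0xc00000000000000000000000)
 Net.nil)))))))))))

noncomputable def MuH1_lb_n_65 : Net :=
 (Net.cons 32 (nat_lit 0xc00000000000000000000000)
 (Net.cons 16 (nat_lit 0x1a1000005028000040a0000046c4)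
 (Net.cons 8 (nat_lit 0xc00080000000000028009000c00018)
 (Net.cons 4 (nat_lit 0x804000800000c0002000800000c040c)
 (Net.cons 2 (nat_lit 0x200000220000202002222000020002)
 (Net.cons 1 (nat_lit 0x140000441050401041411000440544)
 (Net.cons 2 (nat_lit 0x12200002220230202202222000021002)
 (Net.cons 4 (nat_lit 0x804080806000c0002000800080c040c)
 (Net.cons 8 (nat_lit 0xc00080000000000028009000c00018)
 (Net.cons 16 (nat_lit 0x1b110000742c0000d0b0000046c4)
 (Net.cons 32 (nat_lit 0xc00000000000000000000000)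
 Net.nil)))))))))))

noncomputable def MuH1_lb_n_66 : Net :=
 (Net.cons 32 (nat_lit 0x40000)
 (Net.cons 16 (nat_lit 0x8000000080000000000000000010)
 (Net.cons 8 (nat_lit 0x1800500030007000c000e000e00020)
 (Net.cons 4 (nat_lit 0x404080804040a04000000000008)
 (Net.cons 2 (nat_lit 0x200002000000002000000002000)
 (Net.cons 1 (nat_lit 0x400041400001014000000004000)
 (Net.cons 2 (nat_lit 0x22001201202010010213100110002020)
 (Net.cons 4 (nat_lit 0x104040c0808060c0a030a000a010008)
 (Net.cons 8 (nat_lit 0x1800500030007000d200e000e00024)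
 (Net.cons 16 (nat_lit 0x8000000080000000000500000010)
 (Net.cons 32 (nat_lit 0x40000)
 Net.nil)))))))))))

noncomputable def MuH1_lb_n_67 : Net :=
 (Net.cons 32 (nat_lit 0x4000000)
 (Net.cons 16 (nat_lit 0x800)
 (Net.cons 8 (nat_lit 0xc0008000c000800086000400880080)
 (Net.cons 4 (nat_lit 0x404000a04040800000000000808)
 (Net.cons 2 (nat_lit 0x2000000000000000000020000)
 (Net.cons 1 (nat_lit 0x4000100000400000000010440)
 (Net.cons 2 (nat_lit 0x20020112202001100023001100121000)
 (Net.cons 4 (nat_lit 0x4010c04040a0c06090a02080a000808)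
 (Net.cons 8 (nat_lit 0xc0008000c000800086000400880080)
 (Net.cons 16 (nat_lit 0x40100000800)
 (Net.cons 32 (nat_lit 0x4000000)
 Net.nil)))))))))))

noncomputable def MuH1_lb_n_68 : Net :=
 (Net.cons 32 (nat_lit 0x40000000)
 (Net.cons 8 (nat_lit 0xe0000000400000)
 (Net.cons 4 (nat_lit 0x80800000808000006000c0c0c080200)
 (Net.cons 2 (nat_lit 0x2000000200000000000000)
 (Net.cons 1 (nat_lit 0x10001000000400000000004000)
 (Net.cons 2 (nat_lit 0x21211202212112121231212121200310)
 (Net.cons 4 (nat_lit 0x80800000808000006050c0c0c080200)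
 (Net.cons 8 (nat_lit 0xe0004100400000)
 (Net.cons 16 (nat_lit 0x400100000000)
 (Net.cons 32 (nat_lit 0x40000000)
 Net.nil))))))))))

noncomputable def MuH1_lb_n_69 : Net :=
 (Net.cons 32 (nat_lit 0xc0000000)
 (Net.cons 16 (nat_lit 0xc000)
 (Net.cons 8 (nat_lit 0xc0000000000000)
 (Net.cons 4 (nat_lit 0xc00080808080000)
 (Net.cons 2 (nat_lit 0x2022020020220202022020202020220)
 (Net.cons 1 (nat_lit 0x14144444141444441411111111115440)
 (Net.cons 2 (nat_lit 0x2022020020220202022020202020220)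
 (Net.cons 4 (nat_lit 0xc09080808080000)
 (Net.cons 8 (nat_lit 0xc0008100810000)
 (Net.cons 16 (nat_lit 0x80010000c000)
 (Net.cons 32 (nat_lit 0xc0000000)
 Net.nil)))))))))))

noncomputable def MuH1_lb_n : List Net := (apd [Net.nil,
 MuH1_lb_n_1,
 MuH1_lb_n_2,
 MuH1_lb_n_3,
 MuH1_lb_n_4,
 MuH1_lb_n_5,
 MuH1_lb_n_6,
 Net.nil,
 MuH1_lb_n_8,
 Net.nil,
 MuH1_lb_n_10,
 Net.nil,
 Net.nil,
 Net.nil,
 Net.nil,
 Net.nil,
 Net.nil,
 Net.nil,
 Net.nil,
 Net.nil,
 Net.nil,
 Net.nil,
 Net.nil,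
 Net.nil,
 Net.nil,
 Net.nil,
 Net.nil,
 Net.nil,
 Net.nil,
 Net.nil,
 Net.nil,
 Net.nil,
 Net.nil,
 Net.nil,
 Net.nil,
 Net.nil,
 Net.nil,
 Net.nil,
 Net.nil,
 Net.nil]
 [Net.nil,
 Net.nil,
 Net.nil,
 Net.nil,
 Net.nil,
 Net.nil,
 Net.nil,
 Net.nil,
 Net.nil,
 Net.nil,
 Net.nil,
 Net.nil,
 Net.nil,
 Net.nil,
 Net.nil,
 Net.nil,
 Net.nil,
 Net.nil,
 Net.nil,
 Net.nil,
 Net.nil,
 Net.nil,
 Net.nil,
 Net.nil,
 MuH1_lb_n_64,
 MuH1_lb_n_65,
 MuH1_lb_n_66,
 MuH1_lb_n_67,
 MuH1_lb_n_68,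
 MuH1_lb_n_69])

theorem MuH1_lb_n_ok : NetsOK 128 MuH1_lb_n := netsOK_of (by decide +kernel)

theorem MuH1_lb : 2903040 ≤ Nat.card (cl (gp Fi23.nets) [1,2,3,4,5,6,8,10]) :=
  lb_of_itwB (k := 7) (n := 126) Fi23.nets_ok MuH1_lb_n_ok (by norm_num) (by norm_num) (tbA_pt Fi23.nets_ok) (tbA_pt MuH1_lb_n_ok) (φ := look2 (nat_lit 0xecd00ec300ef200ed100ec100eec00ef100eeb00fd800fdb00f6b00fdc00fd700f6900f5e0230b02303023320230d023010232c023310232b0241702414023aa0241802413023a40239b00f580239900e1600e0500e3200e1d00e0200e2c00e3100e2b00dd600dd000dc700dd500dcf00dbd00dbf018eb018e301912018ed018e10190c019110190b019f4019f501988019f6019f3019860197d00b3000b2100b4300b3400b2000b4100b4200b4000b1d00b1100b0c00b1c00b1000b0200b030002e00023000450002f000220004300044000420009b0009c000830009d0009a00082000060197800bac00ba000bc200baf00b9f00bc000bc100bbf00c1e00c1f00c0200c2000c1d00c0100b8400b81002d8002d3002bc002d9002d2002ba002660025b0027d0027c002670025a0027b0027a0023d0023c00004) 20 64) (by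 decide +kernel) (by
    rw [← cl_eq_of_slpB (k := 7) (D := [(64,[2,3,2]),
 (65,[1,3,4,5,8,4,3,2,3,4,8,5,4,3,1]),
 (66,[64,4,65,6,5,6,65,4,64]),
 (67,[4,66,8,66,4]),
 (68,[5,67,5]),
 (69,[6,68,6])]) MuH1_lb_n_ok (by norm_num) (by decide +kernel)]
    exact lb_of_chainB MuH1_lb_n_ok (C := [([4,5,6,8,64,65,66,67,68,69],[1,3,10,2,65,4,66,8,3,4,5,6],0,0,126),
 ([4,5,6,8,66,67,68,69],[64,65,4,6,67,5,8,69,65],1,1,32),
 ([5,6,8,67,68,69],[4,66,5,8,69,6],2,2,15),
 ([6,68,69],[5,8,6,67],3,3,8),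
 ([69],[6,68],4,4,3),
 ([],[69],5,5,2)]) (by decide +kernel))

theorem MuH2_8_ord : Ord.{u} iv MuH2_8_R [3] 2 :=
  (MuH2_8_idx.ord_base).of_cons (cons_of_subset (by decide +kernel))

theorem MuH2_7_ord : Ord.{u} iv MuH2_7_R [3,4] 6 :=
  (MuH2_7_idx.ord_step MuH2_8_ord).of_cons (cons_of_subset (by decide +kernel))

theorem MuH2_6_ord : Ord.{u} iv MuH2_6_R [3,4,5] 24 :=
  (MuH2_6_idx.ord_step MuH2_7_ord).of_cons (cons_of_subset (by decide +kernel))

theorem MuH2_5_ord : Ord.{u} iv MuH2_5_R [3,4,5,8] 192 :=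
  (MuH2_5_idx.ord_step MuH2_6_ord).of_cons (cons_of_subset (by decide +kernel))

theorem MuH2_4_ord : Ord.{u} iv MuH2_4_R [2,3,4,5,8] 1920 :=
  (MuH2_4_idx.ord_step MuH2_5_ord).of_cons (cons_of_subset (by decide +kernel))

theorem MuH2_3_ord : Ord.{u} iv MuH2_3_R [2,3,4,5,6,8] 51840 :=
  (MuH2_3_idx.ord_step MuH2_4_ord).of_cons (cons_of_subset (by decide +kernel))

theorem MuH2_2_ord : Ord.{u} iv MuH2_2_R [1,2,3,4,5,6,8] 1451520 :=
  (MuH2_2_idx.ord_step MuH2_3_ord).of_cons (cons_of_subset (by decide +kernel))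

theorem MuH2_1_ord : Ord.{u} iv MuH2_1_R [1,2,3,4,5,6,7,8] 185794560 :=
  (MuH2_1_idx.ord_step MuH2_2_ord).of_cons (cons_of_subset (by decide +kernel))

theorem MuH2_0_ord : Ord.{u} iv MuH2_0_R [1,2,3,4,5,6,7,8,10] 47377612800 :=
  (MuH2_0_idx.ord_step MuH2_1_ord).of_cons (cons_of_subset (by decide +kernel))

noncomputable def MuH2_lb_n_1 : Net :=
 (Net.cons 128 (nat_lit 0x80000000000000000000000000000000)
 (Net.cons 64 (nat_lit 0xe00000000000000000000000000000008000000000000000)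
 (Net.cons 32 (nat_lit 0xe000000000000000000000000000000000000000)
 (Net.cons 16 (nat_lit 0xc0000000000000008000000080000000000000000000)
 (Net.cons 8 (nat_lit 0xc000c000e00000008000800080008000800000000000c0)
 (Net.cons 4 (nat_lit 0xc0c00000c0c0c0008000c00080808000008080000080800000000000000)
 (Net.cons 2 (nat_lit 0x20202020202020202202002002020202002022020020220200202202022200)
 (Net.cons 1 (nat_lit 0x4444141444441414141111501451111111114141111141411111414444441140)
 (Net.cons 2 (nat_lit 0x20202020202020202202002032020202002022020020220200202202022200)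
 (Net.cons 4 (nat_lit 0xc0c00000c0c0c0908000c09080808000008080000080800000000000900)
 (Net.cons 8 (nat_lit 0xc000c000e00081008000800080008000800000000000c0)
 (Net.cons 16 (nat_lit 0xc0000000800100008000000080000000000000000000)
 (Net.cons 32 (nat_lit 0xe000000000000000800000010000000000000000)
 (Net.cons 64 (nat_lit 0xe00000000000000000000000000000008000000000000000)
 (Net.cons 128 (nat_lit 0x80000000000000000000000000000000)
 Net.nil)))))))))))))))

noncomputable def MuH2_lb_n_2 : Net :=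
 (Net.cons 64 (nat_lit 0xc000000000000000)
 (Net.cons 16 (nat_lit 0x6c00000040000000d8000000d0000000d00000000000)
 (Net.cons 8 (nat_lit 0x68000000e0004000d000d800d000c000d000c000000000)
 (Net.cons 4 (nat_lit 0x406000000060008000c06000c080000080c0c0008040c00080000000000)
 (Net.cons 2 (nat_lit 0x200000202022002200020000200002000000220000000000000000000202000)
 (Net.cons 1 (nat_lit 0x1410000414044404400044040400001040000110040000100400005000404440)
 (Net.cons 2 (nat_lit 0x202301202122012203120201231212000321221203202012032020121212000)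
 (Net.cons 4 (nat_lit 0x40600000006000d000c06050c08000a080c0c0a08040c0a080000000000)
 (Net.cons 8 (nat_lit 0x68000000e0004000d000d800d000c000d000c000000000)
 (Net.cons 16 (nat_lit 0x6c00000040000000d8000000d0000000d00000000000)
 (Net.cons 32 (nat_lit 0x400000010000000000000000)
 (Net.cons 64 (nat_lit 0xc000000000000000)
 Net.nil))))))))))))

noncomputable def MuH2_lb_n_3 : Net :=
 (Net.cons 32 (nat_lit 0x10000000)
 (Net.cons 16 (nat_lit 0x54000000c000)
 (Net.cons 8 (nat_lit 0x80000000800000000000200000002000200060002000600020007400000000)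
 (Net.cons 4 (nat_lit 0x80400040804000400040a0000040a000a0000000a0000000e00020000040000)
 (Net.cons 2 (nat_lit 0x20002000200020002000200020002000202000002020000020200002020220)
 (Net.cons 1 (nat_lit 0x44001400440014001401100014011001104100011041000110410044440440)
 (Net.cons 2 (nat_lit 0x220012002200120012020200120202020203100202031003020200020020220)
 (Net.cons 4 (nat_lit 0x90402040904020402040e0002040e000e000f000e000f000e000a050e040000)
 (Net.cons 8 (nat_lit 0x80000000800000000000200000002000200060002000600020007400c60000)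
 (Net.cons 16 (nat_lit 0x54000000c000)
 (Net.cons 32 (nat_lit 0x10000000)
 Net.nil)))))))))))

noncomputable def MuH2_lb_n_4 : Net :=
 (Net.cons 64 (nat_lit 0x20000000000000)
 (Net.cons 16 (nat_lit 0x4200000000000000840000000200000000000000000)
 (Net.cons 8 (nat_lit 0x7000e2007000e000c000c400e200c00080008800c4008000c4008000000000)
 (Net.cons 4 (nat_lit 0xa0000040000040004020004000406000202000600040202000402000a000400)
 (Net.cons 2 (nat_lit 0x200000000000000200002000000200020200020022000000220000020000000)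
 (Net.cons 1 (nat_lit 0x5400015400555400140104540154150011410415041451010414510045005410)
 (Net.cons 2 (nat_lit 0x200003000123000200002300030200020200020022030000220300020003000)
 (Net.cons 4 (nat_lit 0xa000004000f040004020004000406000202000600040202000402000a000400)
 (Net.cons 8 (nat_lit 0x7100e2007000e200c200c400e200c40084008800c4008800c4008800100000)
 (Net.cons 16 (nat_lit 0x4200000000000000861000000200000000000000000)
 (Net.cons 32 (nat_lit 0x2000010000000000000000)
 (Net.cons 64 (nat_lit 0x20000000000000)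
 Net.nil))))))))))))

noncomputable def MuH2_lb_n_5 : Net :=
 (Net.cons 64 (nat_lit 0x2000000000000)
 (Net.cons 32 (nat_lit 0x80000000000000000000000000000000000000000000000000000000)
 (Net.cons 16 (nat_lit 0x805400005500000000a800005500000002aa00005402000054000000e000)
 (Net.cons 8 (nat_lit 0xc000800000000000800080000000000080008000000080000000000000)
 (Net.cons 4 (nat_lit 0x8000c00000000000008080808000000000808080800000808000000080008)
 (Net.cons 2 (nat_lit 0x2000000000000000002000202000000000200020200000202000000200020)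
 (Net.cons 1 (nat_lit 0x54405055005500005401505401550001500151540154015401540000100010)
 (Net.cons 2 (nat_lit 0x32000233000000000002313202000000020230320200003202000000200020)
 (Net.cons 4 (nat_lit 0x8000c09000000000008080808000000000808080800000808000000080008)
 (Net.cons 8 (nat_lit 0xc000800000000000800080000000000080008000000080000000e70000)
 (Net.cons 16 (nat_lit 0x805500005500000000aa00005500000002ae00005402000054000000e000)
 (Net.cons 32 (nat_lit 0x80000000000000000000000000000000000200010000000000000000)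
 (Net.cons 64 (nat_lit 0x2000000000000)
 Net.nil)))))))))))))

noncomputable def MuH2_lb_n_6 : Net :=
 (Net.cons 32 (nat_lit 0x7fff000000000000fffe000000000000fffc000000000000fff00000)
 (Net.cons 16 (nat_lit 0x55540000000000005556000000000000555200000000)
 (Net.cons 2 (nat_lit 0x20000000000000000000000000000)
 (Net.cons 1 (nat_lit 0x55555555555555540000000055515555000000005551555500000004)
 (Net.cons 2 (nat_lit 0x11112222333300000000000033320000000000000000333300000000)
 (Net.cons 4 (nat_lit 0x1010808090900000000000009090000000000000000090900000000)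
 (Net.cons 8 (nat_lit 0x10080008100000000000000810000000000000000008100000000)
 (Net.cons 16 (nat_lit 0xffff000055540000000000005556000000000000555200000000)
 (Net.cons 32 (nat_lit 0x7fff000000000000fffe000200000000fffc000400000000fff00000)
 Net.nil)))))))))

noncomputable def MuH2_lb_n_7 : Net :=
 (Net.cons 64 (nat_lit 0x55555555000000000000000000000000fffffff800000000)
 (Net.cons 32 (nat_lit 0x80000000000000000000000000000000000000000000000000000000)
 (Net.cons 2 (nat_lit 0x20000000000000002)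
 (Net.cons 1 (nat_lit 0x5555555500000000555555550000000000000000000000040000000000000004)
 (Net.cons 2 (nat_lit 0x3333333300000000000000000000000000000000000000020000000000000002)
 (Net.cons 4 (nat_lit 0x909090900000000000000000000000000000000000000000000000000000000)
 (Net.cons 8 (nat_lit 0x81008100000000000000000000000000000000000000000000000000000000)
 (Net.cons 16 (nat_lit 0x800100000000000000000000000000000000000000000000000000000000)
 (Net.cons 32 (nat_lit 0x80000000000000000000000000000000fffffff90000000000000000)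
 (Net.cons 64 (nat_lit 0x55555555000000000000000000000000fffffff800000000)
 Net.nil))))))))))

noncomputable def MuH2_lb_n_8 : Net :=
 (Net.cons 128 (nat_lit 0xb6000000000000000000000000000000)
 (Net.cons 64 (nat_lit 0x27800000000000000000000000000000b600000000000000)
 (Net.cons 32 (nat_lit 0x27800000000000000000000000000000fe000000)
 (Net.cons 16 (nat_lit 0x27000000000000004e0000004e0000009c0000000000)
 (Net.cons 8 (nat_lit 0x8000000020000000b000200060002000600020006000e0000000e0)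
 (Net.cons 4 (nat_lit 0x400040000000400060204000802060200020602000206020002080a0a000000)
 (Net.cons 2 (nat_lit 0x20000020200000202000002020202002000000)
 (Net.cons 1 (nat_lit 0x5500550055005500540155004511540114415401144154011441104554000000)
 (Net.cons 2 (nat_lit 0x3000300012003000300030000320300020203000202030002020202002000000)
 (Net.cons 4 (nat_lit 0x40004000f000400060204000802060200020602000206020002080a0a000f00)
 (Net.cons 8 (nat_lit 0x8000000020000000b000200060002000600020006000e0000000e0)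
 (Net.cons 16 (nat_lit 0x27000000200100006e0100006e010000fc0300000000)
 (Net.cons 32 (nat_lit 0x27800000000000002000000100000000fe000000)
 (Net.cons 64 (nat_lit 0x27800000000000000000000000000000b600000000000000)
 (Net.cons 128 (nat_lit 0xb6000000000000000000000000000000)
 Net.nil)))))))))))))))

noncomputable def MuH2_lb_n_10 : Net :=
 (Net.cons 128 (nat_lit 0xfffffffffffffffc0000000000000000)
 (Net.cons 64 (nat_lit 0x555555555555555400000000000000000000000000000000)
 (Net.cons 1 (nat_lit 0x5555555555555554555555555555555500000000000000000000000000000001)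
 (Net.cons 2 (nat_lit 0x333333333333333300000000000000000000000000000000)
 (Net.cons 4 (nat_lit 0x90909090909090900000000000000000000000000000000)
 (Net.cons 8 (nat_lit 0x8100810081008100000000000000000000000000000000)
 (Net.cons 16 (nat_lit 0x80010000800100000000000000000000000000000000)
 (Net.cons 32 (nat_lit 0x8000000100000000000000000000000000000000)
 (Net.cons 64 (nat_lit 0x555555555555555400000000000000000000000000000000)
 (Net.cons 128 (nat_lit 0xfffffffffffffffc0000000000000000)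
 Net.nil))))))))))

noncomputable def MuH2_lb_n : List Net := [Net.nil,
 MuH2_lb_n_1,
 MuH2_lb_n_2,
 MuH2_lb_n_3,
 MuH2_lb_n_4,
 MuH2_lb_n_5,
 MuH2_lb_n_6,
 MuH2_lb_n_7,
 MuH2_lb_n_8,
 Net.nil,
 MuH2_lb_n_10]

theorem MuH2_lb_n_ok : NetsOK 256 MuH2_lb_n := netsOK_of (by decide +kernel)

theorem MuH2_lb : 47377612800 ≤ Nat.card (cl (gp Fi23.nets) [1,2,3,4,5,6,7,8,10]) :=
  lb_of_itwB (k := 8) (n := 255) Fi23.nets_ok MuH2_lb_n_ok (by norm_num) (by norm_num) (tbA_pt Fi23.nets_ok) (tbA_pt MuH2_lb_n_ok) (φ := look2 (nat_lit 0x26a0003200bb3002690003100bb000b3800b35002e3000a700c28000a3002d700c2600b1e000270025f00ba4000250025d00ba200b2500b23002e2000a600c27000a2002d600c2500b1400b1f00b150029f0006300bf6002930005700be600b7f00b790023a00002000010023b0000300b8000b0e0029e0006200bf5002920005600be500b7e00b78002c40008a00c0b00089002c000c0900b0d00b08002670002f00baf002660002e00bac00b3400b30002d90009d00c200009b002d300c1e00b1c000230025b00ba0000220025a00b9f00b2100b20002d80009c0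0c1f0009a002d200c1d00b1000b1d00b11000450027d00bc2000430027b00bc000b4300b41002bc0008300c0200082002ba00c0100b02000440027c00bc1000420027a00bbf00b4200b40000060023d00b840023c0000400b8100b0300b0c0230d018ed00ed10230b018eb00ecd00e1d00e1602418019f600fdc019f40241400fd800dd5018e30230300ec3018e10230100ec100e0500e0202417019f500fdb019f30241300fd700dcf00dd600dd0019120233200ef20190c0232c00eec00e3200e2c023aa0198800f6b01986023a400f6900dbd019110233100ef10190b0232b00eeb00e3100e2b0197d0239b00f5e023990197800f5800dbf00dc700dc80190e0232e00eee019080232800ee800e2e00e28023a60198400f6701983023a300f6600dbb0190d0232d00eed019070232700ee700e2d00e270197a0239800f5d023970197700f5700dbc018db022fb00ebb018da022fa00eba00dfb00dfa019ec0240a00fce02408019e800fc800dc900dca019eb0240900fcd02407019e700fc7022f8018d800eb800df8022f7018d700eb700df700db800db700dba00db900000) 20 64) (by decide +kernel) (by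
    rw [← cl_eq_of_slpB (k := 8) (D := []) MuH2_lb_n_ok (by norm_num) (by decide +kernel)]
    exact lb_of_chainB MuH2_lb_n_ok (C := [([1,2,3,4,5,6,7,8],[10,7,6,5,4,3,8,2,1,4,5,3,6,7,4,2,8,5,10,3,4,6,7,5,3,2,4,6,8,3,5,4,5,3,6,2,7],0,0,255),
 ([1,2,3,4,5,6,8],[7,6,5,4,3,8,2,1,4,5,3,6,7,4,2,8,5,3,4,6,3,5,2,4,8,3,4,5,6,7],1,1,128),
 ([1,2,3,4,5,8],[6,5,4,3,8,2,1,4,5,3,6,4,2,8,5,3,4,3,2,5],2,2,63),
 ([1,2,3,4,8],[5,4,3,8,2,1,4,5,3,2,4,8,3,4,5],3,3,32),
 ([1,2,3,8],[4,3,8,2,1,4,3,2],4,4,15),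
 ([1,2],[3,8,2,1],5,5,8),
 ([1],[2,1],6,6,3),
 ([],[1],7,7,2)]) (by decide +kernel))

theorem MuH3_7_ord : Ord.{u} iv MuH3_7_R [3] 2 :=
  (MuH3_7_idx.ord_base).of_cons (cons_of_subset (by decide +kernel))

theorem MuH3_6_ord : Ord.{u} iv MuH3_6_R [3,4] 6 :=
  (MuH3_6_idx.ord_step MuH3_7_ord).of_cons (cons_of_subset (by decide +kernel))

theorem MuH3_5_ord : Ord.{u} iv MuH3_5_R [3,4,5] 24 :=
  (MuH3_5_idx.ord_step MuH3_6_ord).of_cons (cons_of_subset (by decide +kernel))

theorem MuH3_4_ord : Ord.{u} iv MuH3_4_R [3,4,5,8] 192 :=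
  (MuH3_4_idx.ord_step MuH3_5_ord).of_cons (cons_of_subset (by decide +kernel))

theorem MuH3_3_ord : Ord.{u} iv MuH3_3_R [2,3,4,5,8] 1920 :=
  (MuH3_3_idx.ord_step MuH3_4_ord).of_cons (cons_of_subset (by decide +kernel))

theorem MuH3_2_ord : Ord.{u} iv MuH3_2_R [2,3,4,5,6,8] 51840 :=
  (MuH3_2_idx.ord_step MuH3_3_ord).of_cons (cons_of_subset (by decide +kernel))

theorem MuH3_1_ord : Ord.{u} iv MuH3_1_R [2,3,4,5,6,7,8] 2903040 :=
  (MuH3_1_idx.ord_step MuH3_2_ord).of_cons (cons_of_subset (by decide +kernel))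

theorem MuH3_0_ord : Ord.{u} iv MuH3_0_R [2,3,4,5,6,7,8,10] 696729600 :=
  (MuH3_0_idx.ord_step MuH3_1_ord).of_cons (cons_of_subset (by decide +kernel))

noncomputable def MuH3_lb_n_2 : Net :=
 (Net.cons 32 (nat_lit 0x30fd004000000000c19f4028)
 (Net.cons 16 (nat_lit 0x3060000080280000800000000e98)
 (Net.cons 8 (nat_lit 0x80000000e00000005a00c8)
 (Net.cons 4 (nat_lit 0xc0400000004040800000e000802)
 (Net.cons 2 (nat_lit 0x20002200000002000000202000)
 (Net.cons 1 (nat_lit 0x10044001100100001001054451050)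
 (Net.cons 2 (nat_lit 0x3020002200032102000230202200)
 (Net.cons 4 (nat_lit 0xc0400090004040800000e000802)
 (Net.cons 8 (nat_lit 0x80000000e00000005a00c8)
 (Net.cons 16 (nat_lit 0x30e00000802c0000800000000e98)
 (Net.cons 32 (nat_lit 0x30fd004000000000c19f402c)
 Net.nil)))))))))))

noncomputable def MuH3_lb_n_3 : Net :=
 (Net.cons 16 (nat_lit 0x1000000028000000300000005300)
 (Net.cons 8 (nat_lit 0x100040000800100020004c00800000)
 (Net.cons 4 (nat_lit 0x80408020402040004000408040008)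
 (Net.cons 2 (nat_lit 0x200002200200020020000202200)
 (Net.cons 1 (nat_lit 0x400400104110400040010404404440)
 (Net.cons 2 (nat_lit 0x220002202200020021010202200)
 (Net.cons 4 (nat_lit 0x904080204020c0905040408040708)
 (Net.cons 8 (nat_lit 0x100040008800100031004c00810000)
 (Net.cons 16 (nat_lit 0x1000000028000000300000005300)
 Net.nil)))))))))

noncomputable def MuH3_lb_n_4 : Net :=
 (Net.cons 16 (nat_lit 0xc000000000000000c000)
 (Net.cons 8 (nat_lit 0x8000e0000000e000800000)
 (Net.cons 4 (nat_lit 0x808000000080000080e00)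
 (Net.cons 2 (nat_lit 0x2220000000200000220000)
 (Net.cons 1 (nat_lit 0x410104054145404105454014415440)
 (Net.cons 2 (nat_lit 0x2223000000230000223000)
 (Net.cons 4 (nat_lit 0x808000000080000080e00)
 (Net.cons 8 (nat_lit 0x8000e0000000e000800000)
 (Net.cons 16 (nat_lit 0xc000000000000000c000)
 Net.nil)))))))))

noncomputable def MuH3_lb_n_5 : Net :=
 (Net.cons 16 (nat_lit 0x2000000080040000001800002008)
 (Net.cons 8 (nat_lit 0x800010001800880040008000a00050)
 (Net.cons 4 (nat_lit 0x8040002080006040200000608)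
 (Net.cons 2 (nat_lit 0x20000020000000200200000220000)
 (Net.cons 1 (nat_lit 0x40004010001040405400100111000)
 (Net.cons 2 (nat_lit 0x20020000122100200213202020220320)
 (Net.cons 4 (nat_lit 0x108040006080006050200000608)
 (Net.cons 8 (nat_lit 0x800010001800880040008000a40078)
 (Net.cons 16 (nat_lit 0x2000000080040000001800002008)
 Net.nil)))))))))

noncomputable def MuH3_lb_n_6 : Net :=
 (Net.cons 16 (nat_lit 0xc00000001000)
 (Net.cons 8 (nat_lit 0x800020005000e0004000180000)
 (Net.cons 4 (nat_lit 0x400020000040004000c0000080404)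
 (Net.cons 2 (nat_lit 0x2000000000000000000000000000)
 (Net.cons 1 (nat_lit 0x4010000000040000000400000000)
 (Net.cons 2 (nat_lit 0x102000002201303000212002020110)
 (Net.cons 4 (nat_lit 0x408020c000400040c0c000c010c04)
 (Net.cons 8 (nat_lit 0x800020005000e0004000920000)
 (Net.cons 16 (nat_lit 0xc00000001000)
 Net.nil)))))))))

noncomputable def MuH3_lb_n_7 : Net :=
 (Net.cons 8 (nat_lit 0x800000008000000000)
 (Net.cons 4 (nat_lit 0x808080000080800080e00)
 (Net.cons 2 (nat_lit 0x2020200000002000200200)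
 (Net.cons 1 (nat_lit 0x104401101040101040101001100410)
 (Net.cons 2 (nat_lit 0x32023200003032030203200)
 (Net.cons 4 (nat_lit 0x808080000080800080e00)
 (Net.cons 8 (nat_lit 0x800000008000000000)
 Net.nil)))))))

noncomputable def MuH3_lb_n_8 : Net :=
 (Net.cons 16 (nat_lit 0x40000015000000d60000001060)
 (Net.cons 8 (nat_lit 0xc0080008800a200000000)
 (Net.cons 4 (nat_lit 0x402000004020c0004000002080008)
 (Net.cons 2 (nat_lit 0x20020200000002020000020000)
 (Net.cons 1 (nat_lit 0x1040010401050004540110011000)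
 (Net.cons 2 (nat_lit 0x10020121200030022320001020120)
 (Net.cons 4 (nat_lit 0x402000004060c0a040600020c0008)
 (Net.cons 8 (nat_lit 0xc0080008800a200000000)
 (Net.cons 16 (nat_lit 0x48000015420000d60000005560)
 Net.nil)))))))))

noncomputable def MuH3_lb_n_10 : Net :=
 (Net.cons 64 (nat_lit 0x17fb79ed00000000)
 (Net.cons 32 (nat_lit 0xfff400000000000031222e80)
 (Net.cons 16 (nat_lit 0xbc90000042400000400000002020)
 (Net.cons 8 (nat_lit 0x9000400000000000c8000400200008)
 (Net.cons 4 (nat_lit 0xa04000000040004000000080000)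
 (Net.cons 2 (nat_lit 0x200020000002020202020000000020)
 (Net.cons 1 (nat_lit 0x40414540010004040104040400000014)
 (Net.cons 2 (nat_lit 0x310320000002023202020000200020)
 (Net.cons 4 (nat_lit 0x70a0d040000040004000000080002)
 (Net.cons 8 (nat_lit 0x9000640000000000c8002400200008)
 (Net.cons 16 (nat_lit 0xbc90000052500000400000002020)
 (Net.cons 32 (nat_lit 0xfff400000000000031222e81)
 (Net.cons 64 (nat_lit 0x17fb79ed00000000)
 Net.nil)))))))))))))

noncomputable def MuH3_lb_n_64 : Net :=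
 (Net.cons 16 (nat_lit 0xf000000000000000e76800000000)
 (Net.cons 8 (nat_lit 0x300000000000000000008200000000)
 (Net.cons 4 (nat_lit 0xa02000800000000)
 (Net.cons 2 (nat_lit 0x2020202000000000)
 (Net.cons 1 (nat_lit 0x140050000000001010454500000000)
 (Net.cons 2 (nat_lit 0x30330333000000002323222100000000)
 (Net.cons 4 (nat_lit 0xf000000000000020a0a0400000000)
 (Net.cons 8 (nat_lit 0x30000f0000000000ff007d00000000)
 (Net.cons 16 (nat_lit 0xf000000000000000e76800000000)
 Net.nil)))))))))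

noncomputable def MuH3_lb_n_65 : Net :=
 (Net.cons 16 (nat_lit 0xc000000058000000000000004000)
 (Net.cons 8 (nat_lit 0xf0000000f8000000f000f800d00000)
 (Net.cons 4 (nat_lit 0xc0000080200080c000000000a0000)
 (Net.cons 2 (nat_lit 0x20000000002000000000000)
 (Net.cons 1 (nat_lit 0x401050041401005551545005140404)
 (Net.cons 2 (nat_lit 0x30030303323330300332003013332030)
 (Net.cons 4 (nat_lit 0xc0000080d00080c000c0000050000)
 (Net.cons 8 (nat_lit 0xf0000000f8000000f000f800d00000)
 (Net.cons 16 (nat_lit 0xc000000058000000000000004000)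
 Net.nil)))))))))

noncomputable def MuH3_lb_n : List Net := (apd [Net.nil,
 Net.nil,
 MuH3_lb_n_2,
 MuH3_lb_n_3,
 MuH3_lb_n_4,
 MuH3_lb_n_5,
 MuH3_lb_n_6,
 MuH3_lb_n_7,
 MuH3_lb_n_8,
 Net.nil,
 MuH3_lb_n_10,
 Net.nil,
 Net.nil,
 Net.nil,
 Net.nil,
 Net.nil,
 Net.nil,
 Net.nil,
 Net.nil,
 Net.nil,
 Net.nil,
 Net.nil,
 Net.nil,
 Net.nil,
 Net.nil,
 Net.nil,
 Net.nil,
 Net.nil,
 Net.nil,
 Net.nil,
 Net.nil,
 Net.nil,
 Net.nil,
 Net.nil,
 Net.nil,
 Net.nil,
 Net.nil,
 Net.nil,
 Net.nil,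
 Net.nil]
 [Net.nil,
 Net.nil,
 Net.nil,
 Net.nil,
 Net.nil,
 Net.nil,
 Net.nil,
 Net.nil,
 Net.nil,
 Net.nil,
 Net.nil,
 Net.nil,
 Net.nil,
 Net.nil,
 Net.nil,
 Net.nil,
 Net.nil,
 Net.nil,
 Net.nil,
 Net.nil,
 Net.nil,
 Net.nil,
 Net.nil,
 Net.nil,
 MuH3_lb_n_64,
 MuH3_lb_n_65])

theorem MuH3_lb_n_ok : NetsOK 128 MuH3_lb_n := netsOK_of (by decide +kernel)

theorem MuH3_lb : 348364800 ≤ Nat.card (cl (gp Fi23.nets) [2,3,4,5,6,7,8,10]) :=
  lb_of_itwB (k := 7) (n := 120) Fi23.nets_ok MuH3_lb_n_ok (by norm_num) (by norm_num) (tbA_pt Fi23.nets_ok) (tbA_pt MuH3_lb_n_ok) (φ := look2 (nat_lit 0xdd500e1d00f5800f5700ed100fc800fc700eb800dc800dc700dd600df800f6b00f6700df700db800fdb00eb700e1600db700ecd00fdc00dba00db902413023030198801984023a402332023a30232e019f5018eb019f6023310232d02414022fb019e7018d80232c0232802301024090232b0239b0232702398022fa0240a0197801977019e8018ed018d700003000630025d0025a000020027b0027a0023d000320002f000620000400031000a70002e0009d000560008a002d7002d3002c0002d60025f002d20025b002ba0027d000a60009c00083000570027c00b1e00b3800b1c00b3400b0d00b7e00bb300baf00bf500b8000bf600b1f00b1d00b7f00b0c00be500c0b00b3500b3000bb000c2800bac00c2000b7800b0e00b7900c2700c1f00be600c0200b8100000)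 20 64) (by decide +kernel) (by
    rw [← cl_eq_of_slpB (k := 7) (D := [(64,[2,3,4,5,6,7,8,4,3,2,5,4,3,6,8,4,5,4,8,6,3,4,5,2,3,4,8,7,6,5,4,3,2]),
 (65,[5,4,3,6,64,7,5,6,4,5])]) MuH3_lb_n_ok (by norm_num) (by decide +kernel)]
    exact lb_of_chainB MuH3_lb_n_ok (C := [([2,3,4,5,6,7,8,64,65],[10,7,64,65,2,10,3,65,8,65,2,64,3,5,65],0,0,120),
 ([3,4,5,6,7,8,64,65],[2,3,64,65,8,4,2,65,8,5,65,2,3],1,1,63),
 ([3,4,5,6,7,64,65],[8,4,65,5,8,6,65,4,3,8],64,64,32),
 ([3,4,6,7,65],[5,64,4,6,65,3,4],32,32,20),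
 ([4,7,65],[3,6,4,7],66,66,9),
 ([4],[7,65],96,96,4),
 ([],[4],104,104,2)]) (by decide +kernel))

theorem Mu_mb : MB (cl gq L) 1021530510 3 :=
  mb_cyc (w := 68) (n := 72) (La := L) (ix := nth 0 [0,0,1,2,3,4,5,6,7,8,9,0,0]) (by norm_num) (by norm_num) (gq_iv.sval _) (gq_rel.sval fun r hr x hx => mem_cl (sub_of_allR (by decide +kernel) r hr x hx)) (by decide +kernel)
    (TStep.trans (TStep.trans (TStep.trans (TStep.trans (TStep.trans (TStep.trans (TStep.trans (TStep.trans (TStep.trans (TStep.trans (TStep.trans (TStep.trans (TStep.trans (TStep.trans (TStep.trans (TStep.trans (TStep.trans (TStep.trans (TStep.trans (TStep.trans (TStep.trans (TStep.trans (TStep.trans (TStep.trans (TStep.trans (TStep.trans (TStep.trans (TStep.trans (TStep.trans (TStep.repar (k' := 61) (by norm_num) (by norm_num) (by decide +kernel) (by decide +kernel) Mu1_b)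
    (TStep.enum0 (by norm_num) (by norm_num) Mu2_0 (Gs := Mu2G) (by decide +kernel)))
    (TStep.repar (k' := 60) (by norm_num) (by norm_num) (by decide +kernel) (by decide +kernel) Mu3_b))
    (TStep.enum0 (by norm_num) (by norm_num) Mu4_0 (Gs := Mu4G) (by decide +kernel)))
    (TStep.repar (k' := 49) (by norm_num) (by norm_num) (by decide +kernel) (by decide +kernel) Mu5_b))
    (TStep.enum0 (by norm_num) (by norm_num) Mu6_0 (Gs := Mu6G) (by decide +kernel)))
    (TStep.repar (k' := 43) (by norm_num) (by norm_num) (by decide +kernel) (by decide +kernel) Mu7_b))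
    (TStep.enum0 (by norm_num) (by norm_num) Mu8_0 (Gs := Mu8G) (by decide +kernel)))
    (TStep.repar (k' := 36) (by norm_num) (by norm_num) (by decide +kernel) (by decide +kernel) Mu9_b))
    (TStep.enum0 (by norm_num) (by norm_num) Mu10_0 (Gs := Mu10G) (by decide +kernel)))
    (TStep.repar (k' := 28) (by norm_num) (by norm_num) (by decide +kernel) (by decide +kernel) Mu11_b))
    (TStep.enum0 (by norm_num) (by norm_num) Mu12_0 (Gs := Mu12G) (by decide +kernel)))
    (TStep.repar (k' := 19) (by norm_num) (by norm_num) (by decide +kernel) (by decide +kernel) Mu13_b))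
    (TStep.enum0 (by norm_num) (by norm_num) Mu14_0 (Gs := Mu14G) (by decide +kernel)))
    (TStep.repar (k' := 5) (by norm_num) (by norm_num) (by decide +kernel) (by decide +kernel) Mu15_b))
    (TStep.enum0 (by norm_num) (by norm_num) Mu16_0 (Gs := Mu16G) (by decide +kernel)))
    (TStep.repar (k' := 4) (by norm_num) (by norm_num) (by decide +kernel) (by decide +kernel) Mu17_b))
    (TStep.repar (k' := 4) (by norm_num) (by norm_num) (by decide +kernel) (by decide +kernel) Mu18_b))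
    (TStep.enum (by norm_num) (by norm_num) Mu19_0 (I := [0,1,2,3,4,6,7,9,10,11,12,13,15,16,18,19,20,21,23,24,26,27,28,30,31,33,34,36,37,39,41,42,44,49,51,53]) (by decide +kernel) (by decide +kernel) MuH0_0_ord (c := 1) (lb_sval (fun _ hx => mem_cl (sub_of_subB (by decide +kernel) _ hx)) (lbT (by decide) MuH0_lb) (by norm_num)) (Gs := Mu19G) (by decide +kernel)))
    (TStep.repar (k' := 4) (by norm_num) (by norm_num) (by decide +kernel) (by decide +kernel) Mu20_b))
    (TStep.enum (by norm_num) (by norm_num) Mu21_0 (I := [0,1,2,3,4,5,7,9,10,11,12,13,14,16,18,19,20,21,22,24,26,27,28,29,31,33,34,35,37,39,40,42,44,46,48,53,56]) (by decide +kernel) (by decide +kernel) MuH1_0_ord (c := 1) (lb_sval (fun _ hx => mem_cl (sub_of_subB (by decide +kernel) _ hx)) (lbT (by decide) MuH1_lb) (by norm_num)) (Gs := Mu21G) (by decide +kernel)))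
    (TStep.repar (k' := 3) (by norm_num) (by norm_num) (by decide +kernel) (by decide +kernel) Mu22_b))
    (TStep.repar (k' := 3) (by norm_num) (by norm_num) (by decide +kernel) (by decide +kernel) Mu23_b))
    (TStep.enum (by norm_num) (by norm_num) Mu24_0 (I := [0,1,2,3,4,5,6,7,9,10,11,12,13,14,15,16,18,19,20,21,22,23,24,26,27,28,29,30,31,33,34,35,36,37,39,40,41,42,44,45,46,48,49,51,53,56]) (by decide +kernel) (by decide +kernel) MuH2_0_ord (c := 1) (lb_sval (fun _ hx => mem_cl (sub_of_subB (by decide +kernel) _ hx)) (lbT (by decide) MuH2_lb) (by norm_num)) (Gs := Mu24G) (by decide +kernel)))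
    (TStep.repar (k' := 3) (by norm_num) (by norm_num) (by decide +kernel) (by decide +kernel) Mu25_b))
    (TStep.enum (by norm_num) (by norm_num) Mu26_0 (I := [1,2,3,4,5,6,7,9,19,20,21,22,23,24,26,27,28,29,30,31,33,34,35,36,37,39,40,41,42,44,45,46,48,49,51,53]) (by decide +kernel) (by decide +kernel) MuH3_0_ord (c := 2) (lb_sval (fun _ hx => mem_cl (sub_of_subB (by decide +kernel) _ hx)) (lbT (by decide) MuH3_lb) (by norm_num)) (Gs := Mu26G) (by decide +kernel)))
    (TStep.repar (k' := 2) (by norm_num) (by norm_num) (by decide +kernel) (by decide +kernel) Mu27_b))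
    (TStep.enum (by norm_num) (by norm_num) Mu28_0 (I := [0,1,2,3,4,5,6,7,8,9,10,11,12,13,14,15,16,17,18,19,20,21,22,23,24,25,26,27,28,29,30,31,32,33,34,35,36,37,38,39,40,41,42,43,44,45,46,47,48,49,50,51,52,53,54,55,56]) (by decide +kernel) (by decide +kernel) ord23 (c := 1) (lb_sval (fun _ hx => mem_cl (sub_of_subB (by decide +kernel) _ hx)) lb23 (by norm_num)) (Gs := Mu28G) (by decide +kernel)))
    (TStep.repar (k' := 1) (by norm_num) (by norm_num) (by decide +kernel) (by decide +kernel) Mu29_b))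
    (TStep.cons (by norm_num) (by norm_num) (c := (nat_lit 0x1)) (v := 3) (by decide +kernel) (by decide +kernel)))
    (by norm_num) List.mem_cons_self (by norm_num)
    (TStep.repar (k' := 0) (by norm_num) (by norm_num) (by decide +kernel) (by decide +kernel) Mu31_b)
    (L := [1,2,3,4,5,6,7,8,9,10,11,12]) (I := (apd [0,1,2,3,4,5,6,7,8,9,10,11,12,13,14,15,16,17,18,19,20,21,22,23,24,25,26,27,28,29,30,31,32,33,34,35,36,37,38,39,40,41,42,43,44,45,46,47,48,49,50,51,52,53,54,55,56,57,58,59]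
 [60,61,62,63,64,65,66,67,68,69,70,71])) (by decide +kernel) (by decide +kernel) ord card.ge (cl_sval_top _ _)

end Cfsg.Lib.Comp.F24p
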