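import Cfsg.Agent.Lib.Comp.F24p.Base

set_option maxRecDepth 100000
set_option Elab.async false

namespace Cfsg.Lib.Comp.F24p

universe u

noncomputable def MuH0_0_R : List (List ℕ × ℕ) := [([1],1),
 ([2],1),
 ([3],1),
 ([4],1),
 ([5],1),
 ([7],1),
 ([8],1),
 ([10],1),
 ([1,2],2),
 ([1,3],1),
 ([1,4],1),
 ([1,5],1),
 ([1,7],1),
 ([1,8],1),
 ([1,10],1),
 ([2,3],2),
 ([2,4],1),
 ([2,5],1),
 ([2,7],1),
 ([2,8],1),
 ([2,10],1),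
 ([3,4],2),
 ([3,5],1),
 ([3,7],1),
 ([3,8],1),
 ([3,10],1),
 ([4,5],2),
 ([4,7],1),
 ([4,8],2),
 ([4,10],1),
 ([5,7],1),
 ([5,8],1),
 ([5,10],1),
 ([7,8],1),
 ([7,10],2),
 ([8,10],1)]

noncomputable def MuH0_0_n_7 : Net :=
 (Net.cons 1 (nat_lit 0x2)
 Net.nil)

noncomputable def MuH0_0_n_10 : Net :=
 (Net.cons 1 (nat_lit 0x1)
 Net.nil)

noncomputable def MuH0_0_n : List Net := [Net.nil,
 Net.nil,
 Net.nil,
 Net.nil,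
 Net.nil,
 Net.nil,
 Net.nil,
 MuH0_0_n_7,
 Net.nil,
 Net.nil,
 MuH0_0_n_10]

theorem MuH0_0_n_ok : NetsOK 3 MuH0_0_n := netsOK_of (by decide +kernel)

theorem MuH0_0_n_rel : Rels (gp MuH0_0_n) MuH0_0_R := rels_of_relsB (k := 2) MuH0_0_n_ok (by norm_num) (by decide +kernel)

theorem MuH0_0_fin : finB 3 MuH0_0_n [1,2,3,4,5,7,8,10] 3 (runH 3 MuH0_0_n (fun x p => ptInv (nth Net.nil MuH0_0_n x) p) iv MuH0_0_R [] ([1,2,3,4,5,7,8].map fun x => [x]) 0 []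
  [1,5,9,13,17,21,25,20,28,56,80,100,116,128,136,140,48,72,92,108,120,132]
  (defsH 3 MuH0_0_n (ones 39) [10,7] (Nat.shiftLeft 1 0) 0)) = true := by decide +kernel

theorem MuH0_0_idx : Idx.{u} iv (MuH0_0_R ++ []) ([1,2,3,4,5,7,8].map fun x => [x]) [1,2,3,4,5,7,8,10] 3 :=
  Reach.idx MuH0_0_n_ok (reach_runH MuH0_0_n_ok (fun x p _ => ptInv_gp MuH0_0_n_ok x p) MuH0_0_n_rel (reach_defsH MuH0_0_n_ok _ _ _ _ _ _) _ _) MuH0_0_fin (by norm_num)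

end Cfsg.Lib.Comp.F24p
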